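import Groth.Agent.PRed.Points

/-!
# The decomposition given by a split summand
-/

set_option autoImplicit false
set_option linter.unusedSectionVars false

universe u

open CategoryTheory CategoryTheory.Limits MonoidalCategory CartesianMonoidalCategory MonObj GrpObj AlgebraicGeometry
open WithConv TensorProduct
open Groth.Agent.UnipZero (prim mem_prim counit_prim)

noncomputable section

namespace Groth.Agent.PRed

variable {k : Type u} [Field k] {p : ℕ} [Fact p.Prime] [CharP k p] {A : Type u} [CommRing A] [HopfAlgebra k A]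
  {r : ℕ} (S : Split k p A r) (hA : PrimGen k A)

theorem isClosedImmersion_specHom {B C : Type u} [CommRing B] [Bialgebra k B] [CommRing C] [Bialgebra k C]
    (f : B →ₐc[k] C) (hf : Function.Surjective f) : IsClosedImmersion (SekSuwa.specHom f).left :=
  IsClosedImmersion.spec_of_surjective _ hf

theorem mk_surjective : Function.Surjective (Bialgebra.Quotient.mkBialgHom (R := k) (cIdeal S)) :=
  Ideal.Quotient.mk_surjective

include hA in
theorem primGen_quot : PrimGen k (A ⧸ cIdeal S) :=
  primGen_of_surjective (Bialgebra.Quotient.mkBialgHom (R := k) (cIdeal S)) (mk_surjective S) hA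

include hA in
theorem smooth_quot [Algebra.Smooth k A] : Algebra.Smooth k (A ⧸ cIdeal S) := by
  haveI : Algebra.FinitePresentation k A := ‹Algebra.Smooth k A›.finitePresentation
  haveI : IsNoetherianRing A := Algebra.FiniteType.isNoetherianRing k A
  haveI : Algebra.FiniteType k (A ⧸ cIdeal S) :=
    Algebra.FiniteType.of_surjective (Ideal.Quotient.mkₐ k _) Ideal.Quotient.mk_surjective
  refine ⟨Algebra.FormallySmooth.of_comp_surjective fun D _ _ J hJ g => ?_, Algebra.FinitePresentation.of_finiteType.1 inferInstance⟩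
  obtain ⟨l, hl⟩ := Algebra.FormallySmooth.comp_surjective k A J hJ (g.comp (Ideal.Quotient.mkₐ k _))
  refine ⟨l.comp (sec S hA), AlgHom.ext fun x => ?_⟩
  have h := AlgHom.congr_fun hl (sec S hA x)
  simp only [AlgHom.comp_apply, Ideal.Quotient.mkₐ_eq_mk, mk_sec] at h
  exact h

variable {U : Over (Spec (CommRingCat.of k))} [GrpObj U] (e : SA k A ≅ U) [IsMonHom e.hom]

/-- The vector subgroup. -/
def iV : SA k (Sy k r) ⟶ U := SekSuwa.specHom (sigma S hA) ≫ e.hom

/-- The complement. -/
def iW : SA k (A ⧸ cIdeal S) ⟶ U := SekSuwa.specHom (Bialgebra.Quotient.mkBialgHom (R := k) (cIdeal S)) ≫ e.hom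

instance : IsMonHom (iV S hA e) := by unfold iV; infer_instance
instance : IsMonHom (iW S e) := by unfold iW; infer_instance

theorem isClosedImmersion_iV : IsClosedImmersion (iV S hA e).left := by
  haveI : IsIso e.hom.left := inferInstanceAs (IsIso ((Over.forget _).map e.hom))
  haveI := isClosedImmersion_specHom (sigma S hA) fun y => ⟨rho S y, sigma_rho S hA y⟩
  exact inferInstanceAs (IsClosedImmersion ((SekSuwa.specHom (sigma S hA)).left ≫ e.hom.left))

theorem isClosedImmersion_iW : IsClosedImmersion (iW S e).left := by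
  haveI : IsIso e.hom.left := inferInstanceAs (IsIso ((Over.forget _).map e.hom))
  haveI := isClosedImmersion_specHom _ (mk_surjective S)
  exact inferInstanceAs (IsClosedImmersion
    ((SekSuwa.specHom (Bialgebra.Quotient.mkBialgHom (R := k) (cIdeal S))).left ≫ e.hom.left))

theorem isIso_iV_iW : IsIso ((iV S hA e ⊗ₘ iW S e) ≫ μ[U]) := by
  rw [iV, iW, mapS_toBialg, mapS_toBialg]
  exact isIso_mul e _ _ (dec_bijective S hA)

include hA in
theorem smooth_W [Algebra.Smooth k A] : Smooth (SA k (A ⧸ cIdeal S)).hom :=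
  (HasRingHomProperty.Spec_iff (P := @Smooth)).mpr (RingHom.smooth_algebraMap.2 (smooth_quot S hA))

include hA e in
theorem connectedSpace_W [ConnectedSpace ↥U.left] : ConnectedSpace ↥(SA k (A ⧸ cIdeal S)).left := by
  let π : U ⟶ SA k (A ⧸ cIdeal S) := e.inv ≫ mapS (sec S hA)
  let i : SA k (A ⧸ cIdeal S) ⟶ U := mapS (Ideal.Quotient.mkₐ k (cIdeal S)) ≫ e.hom
  have h : i ≫ π = 𝟙 _ := by
    simp only [i, π, Category.assoc, Iso.hom_inv_id_assoc, mapS_comp]
    refine Over.OverMorphism.ext ?_
    show Spec.map _ = 𝟙 _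
    rw [← Spec.map_id]
    congr 1
    ext x
    exact mk_sec S hA x
  have hs : Function.Surjective π.left := fun y =>
    ⟨i.left y, by rw [← Scheme.Hom.comp_apply, ← Over.comp_left, h]; rfl⟩
  exact Function.Surjective.connectedSpace hs π.left.continuous

include hA in
/-- The complement of a maximal summand is wound after a separable extension. -/
theorem wound_W {K : Type u} [Field K] [Algebra k K] [Algebra.IsSeparable k K]
    (hmax : ∀ f, IsFEq p f → ∀ a, f (S.proj a) = 0)
    (φ : Red.Ga (Spec (CommRingCat.of K)) ⟶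
      Red.bc (Spec.map (CommRingCat.ofHom (algebraMap k K))) (SA k (A ⧸ cIdeal S))) :
    ∃ c : 𝟙_ (Over (Spec (CommRingCat.of K))) ⟶
      Red.bc (Spec.map (CommRingCat.ofHom (algebraMap k K))) (SA k (A ⧸ cIdeal S)), φ = toUnit _ ≫ c := by
  haveI : CharP K p := charP_of_injective_algebraMap (algebraMap k K).injective p
  haveI : IsMonHom (Iso.refl (SA k (A ⧸ cIdeal S))).hom := by
    rw [Iso.refl_hom]; infer_instance
  refine (line_iff K (Iso.refl (SA k (A ⧸ cIdeal S)))).2 (fun ψ b => ?_) φ
  obtain ⟨a, rfl⟩ := Ideal.Quotient.mk_surjective b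
  let T : Subalgebra k (Polynomial K) :=
    ((Polynomial.CAlgHom (R := K) : K →ₐ[K] Polynomial K).restrictScalars k).range
  suffices h : Algebra.adjoin k (prim k A : Set A) ≤ T.comap (ψ.comp (Ideal.Quotient.mkₐ k (cIdeal S))) by
    obtain ⟨c, hc⟩ := h (show a ∈ Algebra.adjoin k (prim k A : Set A) by rw [hA]; exact Algebra.mem_top)
    exact ⟨c, hc.symm⟩
  refine Algebra.adjoin_le fun x hx => ?_
  obtain ⟨c, hc⟩ := line_const S hmax (ψ.comp (Ideal.Quotient.mkₐ k (cIdeal S)))
    (fun y hy => by simp [Ideal.Quotient.eq_zero_iff_mem.2 hy]) ⟨x, hx⟩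
  exact ⟨c, hc.symm⟩

section Factor

/-- A closed immersion homomorphism of spectra comes from a surjective bialgebra map. -/
theorem exists_bialgHom {B C : Type u} [CommRing B] [HopfAlgebra k B] [CommRing C] [HopfAlgebra k C]
    (j : SA k C ⟶ SA k B) [IsMonHom j] (hj : IsClosedImmersion j.left) :
    ∃ f : B →ₐc[k] C, SekSuwa.specHom f = j ∧ Function.Surjective f := by
  let J : MTBridge.specGrp k C ⟶ MTBridge.specGrp k B := Grp.homMk' (Mon.Hom.mk (M := ⟨SA k C⟩) (N := ⟨SA k B⟩) j)
  let Φ := (hopfSpec.fullyFaithful (R := CommRingCat.of k)).preimage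
    (X := .op (CommHopfAlgCat.of k C)) (Y := .op (CommHopfAlgCat.of k B)) J
  let f : B →ₐc[k] C := Φ.unop.hom
  have hf : SekSuwa.specHom f = j :=
    congrArg (fun t => t.hom.hom) ((hopfSpec.fullyFaithful (R := CommRingCat.of k)).map_preimage
      (X := .op (CommHopfAlgCat.of k C)) (Y := .op (CommHopfAlgCat.of k B)) J)
  refine ⟨f, hf, ?_⟩
  rw [← hf] at hj
  haveI : IsClosedImmersion (Spec.map (CommRingCat.ofHom (f : B →+* C))) := hj
  intro c
  obtain ⟨y, hy⟩ := (IsClosedImmersion.isAffine_surjective_of_isAffine (Spec.map (CommRingCat.ofHom (f : B →+* C)))).2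
    ((Scheme.ΓSpecIso (CommRingCat.of C)).inv c)
  refine ⟨(Scheme.ΓSpecIso (CommRingCat.of B)).hom y, ?_⟩
  have h := ConcreteCategory.congr_hom (Scheme.ΓSpecIso_naturality (CommRingCat.ofHom (f : B →+* C))) y
  simp only [CommRingCat.comp_apply] at h
  refine h.symm.trans ?_
  rw [CommRingCat.comp_apply, hy, ← CommRingCat.comp_apply, Iso.inv_hom_id]
  rfl


/-- A closed vector subgroup of a primitively generated group gives a split summand. -/
theorem exists_split_of_surjective {n : ℕ} (π : A →ₐc[k] Sy k n) (hπ : Function.Surjective π) (hA : PrimGen k A) :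
    ∃ S : Split k p A n, ∀ x, sigma S hA x = π x := by
  classical
  let M : Submodule k (Sy k n) := (prim k A).map (π : A →ₐ[k] Sy k n).toLinearMap
  have hM : IsPStable p M := by
    rintro _ ⟨a, ha, rfl⟩
    exact ⟨a ^ p, prim_stable (k := k) (A := A) p a ha, map_pow π a p⟩
  have hle : M ≤ prim k (Sy k n) := by
    rintro _ ⟨a, ha, rfl⟩
    exact map_mem_prim π ha
  have hgen : Algebra.adjoin k (M : Set (Sy k n)) = ⊤ := by
    refine eq_top_iff.2 fun y _ => ?_
    obtain ⟨a, rfl⟩ := hπ y
    have h : (Algebra.adjoin k (prim k A : Set A)).map (π : A →ₐ[k] Sy k n) ≤ Algebra.adjoin k (M : Set (Sy k n)) := by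
      rw [AlgHom.map_adjoin]
      rfl
    exact h ⟨a, by rw [hA]; exact Algebra.mem_top, rfl⟩
  have hlift : ∀ i : Fin n, ∃ a : prim k A, π (a : A) = Xe k i := fun i => by
    obtain ⟨a, ha, h⟩ := show Xe k i ∈ M by rw [eq_prim_of_adjoin p hle hM hgen]; exact (X i).2
    exact ⟨⟨a, ha⟩, h⟩
  choose e he using hlift
  let c : Fin n → (prim k A →ₗ[k] (ℕ →₀ k)) := fun i =>
    (blk p 1 one_pos) ∘ₗ (qline i).toLinearMap ∘ₗ (π : A →ₐ[k] Sy k n).toLinearMap ∘ₗ (prim k A).subtype
  have hblk : ∀ (i j : Fin n) (q : ℕ →₀ k),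
      blk p 1 one_pos (qline i (gen p (X (k := k) j) q : Sy k n)) = if i = j then q else 0 := by
    intro i j q
    rw [qline_gen]
    split_ifs with h
    · ext l
      rw [blk_apply, _root_.one_mul, Finsupp.sum, Polynomial.finsetSum_coeff, Finset.sum_eq_single l]
      · simp
      · intro m _ hm
        rw [Polynomial.coeff_monomial, if_neg]
        exact fun hh => hm (Nat.pow_right_injective (Fact.out : p.Prime).two_le hh)
      · intro hl; simp [Finsupp.notMem_support_iff.1 hl]
    · simp
  let S : Split k p A n :=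
    { e := e
      c := c
      equiv := fun i a => by
        show blk p 1 one_pos (qline i (π ((a : A) ^ p))) = _
        rw [map_pow, map_pow, blk_pow p one_pos (fun h => (Fact.out : p.Prime).one_lt.ne' (Nat.dvd_one.1 h))]
        rfl
      dual := fun i j => by
        show blk p 1 one_pos (qline i (π (e j : A))) = _
        rw [he]
        have h := hblk i j (Finsupp.single 0 1)
        rwa [gen_single, one_smul, Function.iterate_zero_apply, coe_X] at h }
  refine ⟨S, fun x => ?_⟩
  refine AlgHom.congr_fun (φ₁ := (sigma S hA : A →ₐ[k] Sy k n)) (φ₂ := (π : A →ₐ[k] Sy k n)) (algHom_ext hA fun a ha => ?_) x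
  show sigma S hA a = π a
  rw [sigma_prim S hA ⟨a, ha⟩]
  obtain ⟨q, hq⟩ := Sy.prim_eq p ⟨π a, map_mem_prim π ha⟩
  have hq' : ∀ i, S.c i ⟨a, ha⟩ = q i := fun i => by
    show blk p 1 one_pos (qline i (π a)) = q i
    rw [show π a = ((∑ j, gen p (X j) (q j) : prim k (Sy k n)) : Sy k n) from congrArg Subtype.val hq,
      Submodule.coe_sum, map_sum, map_sum, Finset.sum_eq_single i (fun j _ hj => by rw [hblk, if_neg hj.symm])
      (fun h => absurd (Finset.mem_univ i) h), hblk, if_pos rfl]
  simp only [hq']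
  exact (congrArg Subtype.val hq).symm

end Factor

end Groth.Agent.PRed
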