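import Groth.Agent.PRed.Dual
import Mathlib.RingTheory.Bialgebra.TensorProduct
import Mathlib.RingTheory.Flat.FaithfullyFlat.Basic
import Mathlib.FieldTheory.IsAlgClosed.AlgebraicClosure

/-!
# Extension of the ground field: primitive elements, generation, killedness
-/

set_option autoImplicit false
set_option linter.unusedSectionVars false

universe u v w

open TensorProduct Coalgebra WithConv
open Groth.Agent.UnipZero (prim mem_prim counit_prim)

noncomputable section

namespace Groth.Agent.PRed

variable {k : Type u} [Field k] {K : Type v} [Field K] [Algebra k K] {A : Type w} [CommRing A] [Bialgebra k A]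

variable (k K A) in
/-- Pairs of elements as pairs over the extension. -/
def νT : A ⊗[k] A →ₗ[k] (K ⊗[k] A) ⊗[K] (K ⊗[k] A) :=
  TensorProduct.lift (LinearMap.mk₂ k (fun x y => ((1 : K) ⊗ₜ[k] x) ⊗ₜ[K] ((1 : K) ⊗ₜ[k] y))
    (fun x x' y => by simp [TensorProduct.tmul_add, TensorProduct.add_tmul])
    (fun c x y => by simp [TensorProduct.tmul_smul, TensorProduct.smul_tmul'])
    (fun x y y' => by simp [TensorProduct.tmul_add])
    (fun c x y => by simp [TensorProduct.tmul_smul]))

theorem νT_tmul (x y : A) : νT k K A (x ⊗ₜ y) = ((1 : K) ⊗ₜ[k] x) ⊗ₜ[K] ((1 : K) ⊗ₜ[k] y) := by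
  simp [νT]

theorem comul_tmul' (c : K) (a : A) :
    comul (R := K) (c ⊗ₜ[k] a : K ⊗[k] A) = c • νT k K A (comul (R := k) a) := by
  rw [Bialgebra.TensorProduct.comul_eq_algHom_toLinearMap]
  simp only [AlgHom.toLinearMap_apply, AlgHom.coe_comp, Function.comp_apply, Algebra.TensorProduct.map_tmul,
    Bialgebra.comulAlgHom_apply, CommSemiring.comul_apply]
  generalize comul (R := k) a = t
  induction t using TensorProduct.induction_on with
  | zero => simp
  | tmul x y =>
    simp only [νT_tmul]
    simp [TensorProduct.smul_tmul']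
    rw [show (c ⊗ₜ[k] y : K ⊗[k] A) = c • ((1 : K) ⊗ₜ[k] y) by simp [TensorProduct.smul_tmul'],
      TensorProduct.tmul_smul, TensorProduct.smul_tmul']
    simp [TensorProduct.smul_tmul']
  | add x y hx hy =>
    simp only [TensorProduct.tmul_add, map_add, smul_add] at *
    rw [hx, hy]

theorem counit_tmul' (c : K) (a : A) :
    counit (R := K) (c ⊗ₜ[k] a : K ⊗[k] A) = c * algebraMap k K (counit (R := k) a) := by
  rw [Bialgebra.TensorProduct.counit_eq_algHom_toLinearMap]
  simp [Algebra.smul_def, mul_comm]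

theorem tmul_one_eq_νT (c : K) (a : A) :
    ((c ⊗ₜ[k] a : K ⊗[k] A) ⊗ₜ[K] (1 : K ⊗[k] A)) = c • νT k K A (a ⊗ₜ 1) := by
  rw [νT_tmul, TensorProduct.smul_tmul', TensorProduct.smul_tmul', smul_eq_mul, mul_one, Algebra.TensorProduct.one_def]

theorem one_tmul_eq_νT (c : K) (a : A) :
    ((1 : K ⊗[k] A) ⊗ₜ[K] (c ⊗ₜ[k] a : K ⊗[k] A)) = c • νT k K A (1 ⊗ₜ a) := by
  rw [νT_tmul, ← TensorProduct.tmul_smul, TensorProduct.smul_tmul', smul_eq_mul, mul_one, Algebra.TensorProduct.one_def]

theorem one_tmul_mem_prim {a : A} (ha : a ∈ prim k A) : ((1 : K) ⊗ₜ[k] a : K ⊗[k] A) ∈ prim K (K ⊗[k] A) := by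
  rw [mem_prim, comul_tmul', mem_prim.1 ha, map_add, tmul_one_eq_νT, one_tmul_eq_νT, smul_add]

variable (k A) in
/-- Extracting a coordinate of a pair. -/
def extract {ι : Type*} (b : Module.Basis ι k K) (j : ι) : (K ⊗[k] A) ⊗[K] (K ⊗[k] A) →ₗ[k] A ⊗[k] A :=
  ((TensorProduct.lid k (A ⊗[k] A)).toLinearMap ∘ₗ (b.coord j).rTensor (A ⊗[k] A)) ∘ₗ
    ((TensorProduct.AlgebraTensorModule.distribBaseChange k K A A).symm.toLinearMap.restrictScalars k)

theorem extract_smul_νT {ι : Type*} (b : Module.Basis ι k K) (j : ι) (c : K) (t : A ⊗[k] A) :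
    extract k A b j (c • νT k K A t) = b.coord j c • t := by
  induction t using TensorProduct.induction_on with
  | zero => simp
  | tmul x y =>
    have e : (TensorProduct.AlgebraTensorModule.distribBaseChange k K A A).symm
        (c • νT k K A (x ⊗ₜ y)) = c ⊗ₜ[k] (x ⊗ₜ[k] y) := by
      rw [LinearEquiv.symm_apply_eq, νT_tmul]
      simp [TensorProduct.smul_tmul']
    show (TensorProduct.lid k (A ⊗[k] A)) ((b.coord j).rTensor _
      ((TensorProduct.AlgebraTensorModule.distribBaseChange k K A A).symm (c • νT k K A (x ⊗ₜ y)))) = _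
    rw [e, LinearMap.rTensor_tmul, TensorProduct.lid_tmul]
  | add x y hx hy => rw [map_add, smul_add, map_add, hx, hy, smul_add]

theorem exists_repr {ι : Type*} (b : Module.Basis ι k K) (z : K ⊗[k] A) :
    ∃ c : ι →₀ A, z = c.sum fun i a => b i ⊗ₜ[k] a := by
  classical
  refine ⟨TensorProduct.equivFinsuppOfBasisLeft b z, ?_⟩
  conv_lhs => rw [← (TensorProduct.equivFinsuppOfBasisLeft b).symm_apply_apply z]
  exact TensorProduct.equivFinsuppOfBasisLeft_symm_apply _ _

/-- Primitive elements of an extension are combinations of primitive elements. -/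
theorem coord_mem_prim {ι : Type*} (b : Module.Basis ι k K) (c : ι →₀ A)
    (hz : (c.sum fun i a => b i ⊗ₜ[k] a) ∈ prim K (K ⊗[k] A)) (j : ι) : c j ∈ prim k A := by
  classical
  rw [mem_prim, ← sub_eq_zero, ← sub_sub]
  have h := congrArg (extract k A b j) (mem_prim.1 hz)
  simp only [Finsupp.sum, map_sum, TensorProduct.sum_tmul, TensorProduct.tmul_sum, map_add, comul_tmul',
    tmul_one_eq_νT, one_tmul_eq_νT, extract_smul_νT, Module.Basis.coord_apply, Module.Basis.repr_self,
    Finsupp.single_apply, ite_smul, one_smul, zero_smul, Finset.sum_ite_eq', Finsupp.mem_support_iff] at h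
  by_cases hj : c j = 0
  · simp [hj]
  · rw [if_pos hj, if_pos hj, if_pos hj] at h
    rw [sub_sub, h, sub_self]

theorem prim_baseChange :
    prim K (K ⊗[k] A) = Submodule.span K ((fun a => (1 : K) ⊗ₜ[k] a) '' (prim k A : Set A)) := by
  refine le_antisymm (fun z hz => ?_) (Submodule.span_le.2 ?_)
  · obtain ⟨c, rfl⟩ := exists_repr (Module.Free.chooseBasis k K) z
    refine Submodule.sum_mem _ fun i _ => ?_
    simp only
    rw [← mul_one (Module.Free.chooseBasis k K i), ← smul_eq_mul, ← TensorProduct.smul_tmul']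
    exact Submodule.smul_mem _ _ (Submodule.subset_span ⟨_, coord_mem_prim _ c hz i, rfl⟩)
  · rintro _ ⟨a, ha, rfl⟩
    exact one_tmul_mem_prim ha

/-- Generation by primitive elements descends. -/
theorem primGen_of_baseChange (h : PrimGen K (K ⊗[k] A)) : PrimGen k A := by
  set D := Algebra.adjoin k (prim k A : Set A) with hD
  let φ : K ⊗[k] D →ₐ[K] K ⊗[k] A := Algebra.TensorProduct.map (AlgHom.id K K) D.val
  have hle : Algebra.adjoin K (prim K (K ⊗[k] A) : Set (K ⊗[k] A)) ≤ φ.range := by
    rw [Algebra.adjoin_le_iff, prim_baseChange]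
    intro z hz
    induction hz using Submodule.span_induction with
    | mem y hy =>
      obtain ⟨a, ha, rfl⟩ := hy
      exact ⟨(1 : K) ⊗ₜ ⟨a, Algebra.subset_adjoin ha⟩, by simp [φ]⟩
    | zero => exact zero_mem _
    | add x y _ _ hx hy => exact add_mem hx hy
    | smul c x _ hx => exact Subalgebra.smul_mem _ hx c
  have hs : Function.Surjective (D.toSubmodule.subtype.lTensor K) := by
    intro z
    have hz : z ∈ φ.range := hle (by rw [h]; exact Algebra.mem_top)
    obtain ⟨y, hy⟩ := hz
    refine ⟨y, ?_⟩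
    rw [← hy]
    clear hy hle
    induction y using TensorProduct.induction_on with
    | zero => exact (map_zero (D.toSubmodule.subtype.lTensor K)).trans (map_zero φ).symm
    | tmul c d => rfl
    | add x y hx hy =>
      exact ((map_add (D.toSubmodule.subtype.lTensor K) _ _).trans (congrArg₂ (· + ·) hx hy)).trans (map_add φ x y).symm
  have hsurj := (Module.FaithfullyFlat.lTensor_surjective_iff_surjective k K D.toSubmodule.subtype).1 hs
  refine eq_top_iff.2 fun a _ => ?_
  obtain ⟨d, rfl⟩ := hsurj a
  exact d.2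

section Killed

/-- Extension of endomorphisms. -/
def pushK (f : WithConv (A →ₗ[k] A)) : WithConv ((K ⊗[k] A) →ₗ[K] (K ⊗[k] A)) := toConv (f.ofConv.baseChange K)

theorem pushK_mul (f g : WithConv (A →ₗ[k] A)) : pushK (K := K) (f * g) = pushK f * pushK g := by
  apply WithConv.ofConv_injective
  refine TensorProduct.AlgebraTensorModule.ext fun c a => ?_
  simp only [pushK, WithConv.ofConv_toConv, LinearMap.baseChange_tmul, LinearMap.convMul_apply, comul_tmul', map_smul]
  generalize comul (R := k) a = t
  induction t using TensorProduct.induction_on with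
  | zero => simp
  | tmul x y => simp [νT_tmul, TensorProduct.smul_tmul']
  | add x y hx hy => simp only [map_add, smul_add, TensorProduct.tmul_add, hx, hy]

theorem pushK_one : pushK (K := K) (1 : WithConv (A →ₗ[k] A)) = 1 := by
  apply WithConv.ofConv_injective
  refine TensorProduct.AlgebraTensorModule.ext fun c a => ?_
  show c ⊗ₜ[k] algebraMap k A (counit (R := k) a) = algebraMap K (K ⊗[k] A) (counit (R := K) (c ⊗ₜ[k] a : K ⊗[k] A))
  rw [counit_tmul', Algebra.TensorProduct.algebraMap_apply, Algebra.algebraMap_eq_smul_one, TensorProduct.tmul_smul,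
    TensorProduct.smul_tmul', Algebra.smul_def, mul_comm, Algebra.algebraMap_self_apply]

theorem killed_baseChange {p : ℕ} (hk : Killed k A p) : Killed K (K ⊗[k] A) p := by
  have e : toConv (LinearMap.id : (K ⊗[k] A) →ₗ[K] (K ⊗[k] A)) = pushK (toConv (LinearMap.id : A →ₗ[k] A)) := by
    apply WithConv.ofConv_injective
    exact TensorProduct.AlgebraTensorModule.ext fun c a => by simp [pushK]
  have hpow : ∀ (f : WithConv (A →ₗ[k] A)) (n : ℕ), pushK (K := K) f ^ n = pushK (f ^ n) := by
    intro f n
    induction n with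
    | zero => rw [pow_zero, pow_zero, pushK_one]
    | succ n ih => rw [pow_succ, pow_succ, ih, pushK_mul]
  have h1 : (toConv (LinearMap.id : A →ₗ[k] A)) ^ p = 1 := WithConv.ofConv_injective (LinearMap.ext hk)
  intro z
  rw [e, hpow, h1, pushK_one, LinearMap.convOne_apply]

end Killed

/-- Generation by primitive elements, over any field. -/
theorem primGen_of_killed_of_geomReduced {p : ℕ} [Fact p.Prime] [CharP k p] [IsCocomm k A] (L : Type v) [Field L]
    [Algebra k L] [PerfectField L] [IsReduced (L ⊗[k] A)] (hk : Killed k A p) : PrimGen k A := by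
  haveI : CharP L p := charP_of_injective_algebraMap (algebraMap k L).injective p
  haveI : IsCocomm L (L ⊗[k] A) := inferInstance
  exact primGen_of_baseChange (K := L) (primGen_of_killed (killed_baseChange (K := L) hk))

end Groth.Agent.PRed
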