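import Groth.Agent.PRed.Mono
import Mathlib.FieldTheory.Perfect
import Mathlib.RingTheory.Nilpotent.Lemmas

/-!
# A bialgebra killed by `p` is generated by its primitive elements (perfect field, reduced)

If the `p`-th convolution power of the identity is trivial, the `p`-th powers of the functionals killing `1`
vanish, so the bialgebra is conilpotent, and an induction along the filtration shows that the primitive
elements generate.
-/

set_option autoImplicit false
set_option linter.unusedSectionVars false

universe u v w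

open TensorProduct Coalgebra WithConv
open Groth.Agent.UnipZero (prim mem_prim counit_prim)
open Groth.Agent.Comod
open scoped Groth.Agent.Comod

noncomputable section

namespace Groth.Agent.PRed

variable {k : Type u} [Field k] {A : Type v} [CommRing A] [Bialgebra k A]

variable (k A) in
/-- The `p`-th power of the identity is trivial. -/
def Killed (p : ℕ) : Prop :=
  ∀ a, ((toConv (LinearMap.id : A →ₗ[k] A)) ^ p) a = algebraMap k A (counit (R := k) a)

/-- Agreement on a subcoalgebra. -/
theorem mul_congr_on {B : Type*} [CommRing B] [Algebra k B] {W : Submodule k A}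
    (hW : ∀ c ∈ W, comul (R := k) c ∈ LinearMap.range (TensorProduct.map W.subtype W.subtype))
    {f f' g g' : WithConv (A →ₗ[k] B)} (hf : ∀ c ∈ W, f c = f' c) (hg : ∀ c ∈ W, g c = g' c) :
    ∀ c ∈ W, (f * g) c = (f' * g') c := by
  intro c hc
  obtain ⟨t, ht⟩ := hW c hc
  simp only [LinearMap.convMul_apply, ← ht]
  rw [← LinearMap.comp_apply (TensorProduct.map f.ofConv g.ofConv), ← TensorProduct.map_comp,
    ← LinearMap.comp_apply (TensorProduct.map f'.ofConv g'.ofConv), ← TensorProduct.map_comp]
  congr 2
  congr 1 <;> refine LinearMap.ext fun x => ?_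
  exacts [hf _ x.2, hg _ x.2]

theorem pow_congr_on {B : Type*} [CommRing B] [Algebra k B] {W : Submodule k A}
    (hW : ∀ c ∈ W, comul (R := k) c ∈ LinearMap.range (TensorProduct.map W.subtype W.subtype))
    {f f' : WithConv (A →ₗ[k] B)} (hf : ∀ c ∈ W, f c = f' c) :
    ∀ n : ℕ, ∀ c ∈ W, (f ^ n) c = (f' ^ n) c
  | 0 => fun c _ => by simp
  | n + 1 => fun c hc => by rw [pow_succ, pow_succ]; exact mul_congr_on hW (pow_congr_on hW hf n) hf c hc

variable [IsCocomm k A]

theorem cL_comul_eq_cR (f : A →ₗ[k] k) (c : A) : cL f (comul (R := k) c) = cR f (comul (R := k) c) := by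
  conv_lhs => rw [← Coalgebra.comm_comul k c]
  generalize comul (R := k) c = t
  induction t using TensorProduct.induction_on with
  | zero => simp
  | tmul x y => simp
  | add x y hx hy => simp only [map_add, hx, hy]

/-- Finite subcoalgebras containing `1`. -/
theorem exists_subcoalgebra (a : A) : ∃ W : Submodule k A, FiniteDimensional k W ∧ a ∈ W ∧ (1 : A) ∈ W ∧
    ∀ c ∈ W, comul (R := k) c ∈ LinearMap.range (TensorProduct.map W.subtype W.subtype) := by
  obtain ⟨S, haS, hfin⟩ := exists_finite_subcomod (K := k) (C := A) (V := A) a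
  haveI : FiniteDimensional k (ofDSub S) := hfin
  refine ⟨ofDSub S ⊔ Submodule.span k {1}, inferInstance, Submodule.mem_sup_left haS,
    Submodule.mem_sup_right (Submodule.mem_span_singleton_self _), fun c hc => ?_⟩
  have hR : ∀ f : A →ₗ[k] k, cR f (comul (R := k) c) ∈ ofDSub S ⊔ Submodule.span k {1} := by
    intro f
    obtain ⟨w, hw, z, hz, rfl⟩ := Submodule.mem_sup.1 hc
    obtain ⟨r, rfl⟩ := Submodule.mem_span_singleton.1 hz
    rw [map_add, map_add]
    refine add_mem (Submodule.mem_sup_left ?_) (Submodule.mem_sup_right ?_)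
    · exact S.smul_mem (toConv f) hw
    · rw [map_smul, map_smul, Bialgebra.comul_one, Algebra.TensorProduct.one_def, cR_tmul, smul_smul]
      exact Submodule.smul_mem _ _ (Submodule.mem_span_singleton_self _)
  exact (mem_range_map_iff _ _ _).2 ⟨hR, fun f => by rw [cL_comul_eq_cR]; exact hR f⟩

/-- Coordinates on a finite subcoalgebra, relative to the splitting by the counit. -/
theorem exists_coords (W : Submodule k A) [FiniteDimensional k W] (h1 : (1 : A) ∈ W) :
    ∃ (d : ℕ) (e : Fin d → A) (φ : Fin d → A →ₗ[k] k), LinearIndependent k e ∧ (∀ i, φ i 1 = 0) ∧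
      ∀ c ∈ W, c = counit (R := k) c • (1 : A) + ∑ i, φ i c • e i := by
  let π : A →ₗ[k] A := LinearMap.id - (LinearMap.toSpanSingleton k A 1) ∘ₗ counit
  let W₀ : Submodule k A := W.map π
  haveI : FiniteDimensional k W₀ := inferInstanceAs (FiniteDimensional k (W.map π))
  let b := Module.finBasis k W₀
  obtain ⟨P, hP⟩ := W₀.exists_isCompl
  refine ⟨Module.finrank k W₀, fun i => (b i : A),
    fun i => b.coord i ∘ₗ W₀.projectionOnto P hP ∘ₗ π,
    b.linearIndependent.map' W₀.subtype W₀.ker_subtype, fun i => ?_, fun c hc => ?_⟩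
  · simp [π]
  · have hmem : π c ∈ W₀ := Submodule.mem_map_of_mem hc
    have h := congrArg Subtype.val (b.sum_repr ⟨π c, hmem⟩)
    simp only [Submodule.coe_sum, Submodule.coe_smul] at h
    have h2 : ∀ i, (b.coord i ∘ₗ W₀.projectionOnto P hP ∘ₗ π) c = b.repr ⟨π c, hmem⟩ i := fun i => by
      rw [LinearMap.comp_apply, LinearMap.comp_apply, Submodule.projectionOnto_apply_of_mem_left hP hmem]
      rfl
    simp only [h2, h]
    simp [π]

variable {p : ℕ} [Fact p.Prime] [CharP k p]

instance charP_conv {B : Type w} [CommRing B] [Algebra k B] [Nontrivial B] : CharP (WithConv (A →ₗ[k] B)) p := by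
  haveI : Nontrivial (WithConv (A →ₗ[k] B)) := ⟨⟨0, 1, fun h => by
    have := congrArg (fun t : WithConv (A →ₗ[k] B) => t (1 : A)) h
    simp at this⟩⟩
  exact charP_of_injective_algebraMap (algebraMap k (WithConv (A →ₗ[k] B))).injective p

/-- Functionals as maps into `A`. -/
def pushA (f : WithConv (A →ₗ[k] k)) : WithConv (A →ₗ[k] A) :=
  toConv ((Algebra.ofId k A).toLinearMap ∘ₗ f.ofConv)

theorem pushA_mul (f g : WithConv (A →ₗ[k] k)) : pushA (f * g) = pushA f * pushA g := by
  apply WithConv.ofConv_injective
  exact LinearMap.algHom_comp_convMul_distrib _ f g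

theorem pushA_one : pushA (1 : WithConv (A →ₗ[k] k)) = 1 := by
  apply WithConv.ofConv_injective
  exact LinearMap.ext fun c => by simp [pushA]

theorem pushA_pow (f : WithConv (A →ₗ[k] k)) : ∀ n : ℕ, pushA (f ^ n) = pushA f ^ n
  | 0 => by rw [pow_zero, pow_zero, pushA_one]
  | n + 1 => by rw [pow_succ, pow_succ, pushA_mul, pushA_pow f n]

/-- `p`-th powers of functionals killing `1` vanish. -/
theorem pow_p_eq_zero [PerfectField k] [IsReduced A] (hk : Killed k A p) (f : WithConv (A →ₗ[k] k))
    (hf : f (1 : A) = 0) (a : A) : (f ^ p) a = 0 := by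
  haveI : Nontrivial A := (Bialgebra.counitAlgHom k A).toRingHom.domain_nontrivial
  haveI : CharP A p := charP_of_injective_algebraMap (algebraMap k A).injective p
  haveI : CharP (WithConv (A →ₗ[k] A)) p := charP_conv
  haveI : CharP (WithConv (A →ₗ[k] k)) p := charP_conv
  haveI : ExpChar k p := ExpChar.prime Fact.out
  haveI : PerfectRing k p := PerfectField.toPerfectRing p
  obtain ⟨W, hfin, haW, h1W, hW⟩ := exists_subcoalgebra (k := k) a
  obtain ⟨d, e, φ, heli, hφ1, hsplit⟩ := exists_coords W h1W
  let u : Fin d → WithConv (A →ₗ[k] A) := fun i => e i • pushA (toConv (φ i))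
  have hid : ∀ c ∈ W, (toConv (LinearMap.id : A →ₗ[k] A)) c = (1 + ∑ i, u i) c := by
    intro c hc
    conv_lhs => rw [show (toConv (LinearMap.id : A →ₗ[k] A)) c = c from rfl, hsplit c hc]
    simp only [u, pushA, WithConv.ofConv_add, WithConv.ofConv_sum, WithConv.ofConv_smul, LinearMap.add_apply,
      LinearMap.sum_apply, LinearMap.smul_apply, LinearMap.convOne_apply, smul_eq_mul, LinearMap.comp_apply]
    simp [Algebra.smul_def, mul_comm]
  have hp := hk a
  rw [pow_congr_on hW hid p a haW, add_pow_char, one_pow, sum_pow_char] at hp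
  have hu : ∀ i, (u i ^ p) a = ((toConv (φ i)) ^ p) a • e i ^ p := fun i => by
    rw [show u i ^ p = e i ^ p • pushA ((toConv (φ i)) ^ p) by rw [pushA_pow, smul_pow]]
    simp only [pushA, WithConv.ofConv_smul, LinearMap.smul_apply, smul_eq_mul, LinearMap.comp_apply]
    simp [Algebra.smul_def, mul_comm]
  simp only [WithConv.ofConv_add, LinearMap.add_apply, LinearMap.convOne_apply, add_eq_left, WithConv.ofConv_sum,
    LinearMap.sum_apply, hu] at hp
  have hroot : ∀ r : k, ∃ s : k, s ^ p = r := fun r => surjective_frobenius k p r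
  choose s hs using hroot
  have h0 : (∑ i, s (((toConv (φ i)) ^ p) a) • e i) ^ p = 0 := by
    rw [sum_pow_char, ← hp]
    exact Finset.sum_congr rfl fun i _ => by rw [smul_pow, hs]
  have h1 := Fintype.linearIndependent_iff.1 heli _ (eq_zero_of_pow_eq_zero h0)
  have hd : ∀ i, ((toConv (φ i)) ^ p) a = 0 := fun i => by
    rw [← hs (((toConv (φ i)) ^ p) a), h1 i, zero_pow (Fact.out : p.Prime).ne_zero]
  have hfW : ∀ c ∈ W, f c = (∑ i, f (e i) • toConv (φ i)) c := by
    intro c hc
    conv_lhs => rw [hsplit c hc]
    simp [map_sum, hf, mul_comm]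
  rw [pow_congr_on hW hfW p a haW, sum_pow_char]
  simp [smul_pow, hd]

theorem exists_prod_mem_aux {D : Type*} [CommRing D] {d : ℕ} (g : Fin d → D) (p : ℕ) (J : Ideal D)
    (hg : ∀ i, g i ^ p ∈ J) : ∃ N : ℕ, ∀ l : List D, l.length = N →
      (∀ x ∈ l, x ∈ Ideal.span (Set.range g) ⊔ J) → l.prod ∈ J := by
  classical
  have hfg : ((Ideal.span (Set.range g)).map (Ideal.Quotient.mk J)).FG :=
    Ideal.FG.map ⟨Finset.univ.image g, by simp⟩ _
  obtain ⟨N, hN⟩ := (Ideal.FG.isNilpotent_iff_le_nilradical hfg).2 (Ideal.map_le_iff_le_comap.2 (Ideal.span_le.2 (by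
    rintro _ ⟨i, rfl⟩
    refine ⟨p, ?_⟩
    rw [← map_pow]
    refine (Submodule.mem_bot _).2 ?_
    rw [Ideal.Quotient.eq_zero_iff_mem]
    exact hg i)))
  refine ⟨N, fun l hl hx => ?_⟩
  have key : ∀ m : List D, (∀ x ∈ m, x ∈ Ideal.span (Set.range g) ⊔ J) →
      Ideal.Quotient.mk J m.prod ∈ ((Ideal.span (Set.range g)).map (Ideal.Quotient.mk J)) ^ m.length := by
    intro m
    induction m with
    | nil => intro _; simp
    | cons x m ih =>
      intro h
      rw [List.prod_cons, map_mul, List.length_cons, pow_succ']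
      refine Ideal.mul_mem_mul ?_ (ih fun y hy => h y (List.mem_cons_of_mem _ hy))
      have := Ideal.mem_map_of_mem (Ideal.Quotient.mk J) (h x List.mem_cons_self)
      rwa [Ideal.map_sup, Ideal.map_quotient_self, sup_bot_eq] at this
  have := key l hx
  rw [hl, hN] at this
  exact Ideal.Quotient.eq_zero_iff_mem.1 this

/-- Killed by `p` implies conilpotent. -/
theorem isConil_of_killed [PerfectField k] [IsReduced A] (hk : Killed k A p) : UnipConil.IsConil k A := by
  classical
  intro a
  obtain ⟨W, hfin, haW, h1W, hW⟩ := exists_subcoalgebra (k := k) a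
  obtain ⟨d, e, φ, -, hφ1, hsplit⟩ := exists_coords W h1W
  let J : Ideal (WithConv (A →ₗ[k] k)) :=
    { carrier := {f | ∀ c ∈ W, f c = 0}
      add_mem' := fun {f g} hf hg c hc => by
        show (f + g).ofConv c = 0
        rw [WithConv.ofConv_add, LinearMap.add_apply]
        show f c + g c = 0
        rw [hf c hc, hg c hc, add_zero]
      zero_mem' := fun c _ => rfl
      smul_mem' := fun g f hf c hc => by
        rw [smul_eq_mul, mul_congr_on hW (f' := g) (g' := 0) (fun _ _ => rfl) hf c hc, mul_zero]
        rfl }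
  obtain ⟨N, hN⟩ := exists_prod_mem_aux (fun i => toConv (φ i)) p J
    (fun i c _ => pow_p_eq_zero hk _ (hφ1 i) c)
  have hle : ∀ f : WithConv (A →ₗ[k] k), f (1 : A) = 0 →
      f ∈ Ideal.span (Set.range fun i => toConv (φ i)) ⊔ J := by
    intro f hf1
    rw [show f = (∑ i, f (e i) • toConv (φ i)) + (f - ∑ i, f (e i) • toConv (φ i)) from (add_sub_cancel _ _).symm]
    refine Submodule.add_mem_sup (Submodule.sum_mem _ fun i _ => ?_) fun c hc => ?_
    · rw [Algebra.smul_def]
      exact Ideal.mul_mem_left _ _ (Ideal.subset_span ⟨i, rfl⟩)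
    · rw [WithConv.ofConv_sub, LinearMap.sub_apply]
      conv_lhs => arg 1; rw [hsplit c hc]
      simp [map_sum, hf1, mul_comm]
  have key : ∀ n : ℕ, ∀ c : A, (∀ l : List (WithConv (A →ₗ[k] k)), l.length = n + 1 →
      (∀ f ∈ l, f (1 : A) = 0) → l.prod c = 0) → c ∈ UnipConil.filt k A n := by
    intro n
    induction n with
    | zero =>
      intro c hc
      refine UnipConil.mem_of_forall_dual fun g hg => ?_
      have := hc [toConv g] rfl (by simpa using hg 1 (Submodule.mem_span_singleton_self _))
      simpa using this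
    | succ n ih =>
      intro c hc
      refine UnipConil.mem_filt_succ.2 fun f g hf hg => ?_
      rw [UnipConil.pair_eq_cL]
      refine hg _ (ih _ fun l hl hh => ?_)
      have e1 : l.prod (cL f (comul (R := k) c)) = (toConv f * l.prod) c := by
        rw [← UnipConil.pair_eq_cL f l.prod.ofConv c, UnipConil.pair_eq_mul]
      rw [e1, ← List.prod_cons]
      refine hc _ (by simp [hl]) ?_
      intro y hy
      rcases List.mem_cons.1 hy with rfl | hy
      exacts [hf, hh y hy]
  refine ⟨N, key N a fun l hl hh => ?_⟩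
  obtain ⟨x, l', rfl⟩ := List.exists_cons_of_length_eq_add_one hl
  have hJ : x * l'.prod ∈ J := Ideal.mul_mem_left _ _ (hN l' (by simpa using hl) fun f hf => hle f (hh f (List.mem_cons_of_mem _ hf)))
  rw [List.prod_cons]
  exact hJ a haW

section Induction

variable {ι : Type w} [Fintype ι] [DecidableEq ι] {x : ι → A}

theorem ymono_rmono (hx : ∀ i, x i ∈ prim k A) (y : ι → WithConv (A →ₗ[k] k))
    (hy : ∀ i (a : ι → Fin p), y i (rmono p x a) = if (fun j => (a j : ℕ)) = Pi.single i 1 then 1 else 0) :
    ∀ (n : ℕ) (m : ι → ℕ), ∑ i, m i = n → ∀ m' : ι → Fin p,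
      (∏ i, y i ^ m i) (rmono p x m') = if (fun i => (m' i : ℕ)) = m then ((∏ i, (m i).factorial : ℕ) : k) else 0 := by
  classical
  intro n
  induction n with
  | zero =>
    intro m hm m'
    have hm0 : m = 0 := funext fun i => (Finset.sum_eq_zero_iff.1 hm) i (Finset.mem_univ i)
    subst hm0
    by_cases h : (fun i => (m' i : ℕ)) = 0
    · rw [if_pos h, rmono, h, mono_zero]
      simp
    · rw [if_neg h]
      obtain ⟨i, hi⟩ : ∃ i, (m' i : ℕ) ≠ 0 := by
        by_contra hh
        push Not at hh
        exact h (funext hh)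
      simp only [Pi.zero_apply, pow_zero, Finset.prod_const_one, LinearMap.convOne_apply]
      show counit (R := k) (rmono p x m') = 0
      rw [rmono, mono, ← Bialgebra.counitAlgHom_apply, map_prod]
      exact Finset.prod_eq_zero (Finset.mem_univ i) (by
        rw [map_pow, Bialgebra.counitAlgHom_apply, counit_prim (hx i), zero_pow hi])
  | succ n ih =>
    intro m hm m'
    obtain ⟨i, hi⟩ : ∃ i, m i ≠ 0 := by
      by_contra hh
      push Not at hh
      simp [hh] at hm
    have e : m = Pi.single i 1 + Function.update m i (m i - 1) := funext fun j => by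
      rcases eq_or_ne j i with rfl | hne <;> simp [*]; omega
    set m₁ := Function.update m i (m i - 1) with hm₁
    have hsum : ∑ j, m₁ j = n := by
      have h := congrArg (fun q : ι → ℕ => ∑ j, q j) e
      simp [Finset.sum_add_distrib, hm] at h
      omega
    have hprod : (∏ j, y j ^ m j) = y i * ∏ j, y j ^ m₁ j := by
      rw [e]
      simp only [Pi.add_apply, pow_add, Finset.prod_mul_distrib]
      congr 1
      rw [Finset.prod_eq_single i (fun j _ hj => by simp [hj]) (fun hh => absurd (Finset.mem_univ i) hh)]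
      simp
    rw [hprod, LinearMap.convMul_apply, rmono, comul_mono hx, map_sum, map_sum]
    have hterm : ∀ a ∈ Fintype.piFinset (fun j => Finset.range ((m' j : ℕ) + 1)),
        LinearMap.mul' k k (TensorProduct.map (y i).ofConv (∏ j, y j ^ m₁ j).ofConv
          ((∏ j, (m' j : ℕ).choose (a j)) • (mono x a ⊗ₜ[k] mono x ((fun j => (m' j : ℕ)) - a)))) =
        if a = Pi.single i 1 ∧ (fun j => (m' j : ℕ)) - a = m₁ then
          ((∏ j, (m' j : ℕ).choose (a j) : ℕ) : k) * ((∏ j, (m₁ j).factorial : ℕ) : k) else 0 := by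
      intro a ha
      simp only [Fintype.mem_piFinset, Finset.mem_range] at ha
      let a' : ι → Fin p := fun j => ⟨a j, by have := ha j; have := (m' j).isLt; omega⟩
      let c' : ι → Fin p := fun j => ⟨(m' j : ℕ) - a j, lt_of_le_of_lt (Nat.sub_le _ _) (m' j).isLt⟩
      rw [map_nsmul, map_nsmul, TensorProduct.map_tmul, LinearMap.mul'_apply,
        show mono x a = rmono p x a' from rfl, show mono x ((fun j => (m' j : ℕ)) - a) = rmono p x c' from rfl,
        hy, ih m₁ hsum, show (fun j => (a' j : ℕ)) = a from rfl,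
        show (fun j => (c' j : ℕ)) = (fun j => (m' j : ℕ)) - a from rfl, nsmul_eq_mul]
      by_cases h1 : a = Pi.single i 1 <;> by_cases h2 : (fun j => (m' j : ℕ)) - a = m₁ <;> simp [h1, h2]
    rw [Finset.sum_congr rfl hterm]
    by_cases h : (fun j => (m' j : ℕ)) = m
    · rw [if_pos h, Finset.sum_eq_single (Pi.single i 1)]
      · rw [if_pos ⟨rfl, funext fun j => by
          have := congrFun e j
          have := congrFun h j
          simp only [Pi.sub_apply, Pi.add_apply] at *
          omega⟩, ← Nat.cast_mul,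
          Finset.prod_eq_single i (fun j _ hj => by simp [hj]) (fun hh => absurd (Finset.mem_univ i) hh),
          Pi.single_eq_same, Nat.choose_one_right, congrFun h i,
          ← Finset.mul_prod_erase _ (fun j => (m₁ j).factorial) (Finset.mem_univ i),
          ← Finset.mul_prod_erase _ (fun j => (m j).factorial) (Finset.mem_univ i), ← mul_assoc]
        congr 2
        · rw [hm₁, Function.update_self, Nat.mul_factorial_pred hi]
        · exact Finset.prod_congr rfl fun j hj => by rw [hm₁, Function.update_of_ne (Finset.ne_of_mem_erase hj)]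
      · intro a _ ha
        rw [if_neg fun hh => ha hh.1]
      · intro hh
        refine absurd (Fintype.mem_piFinset.2 fun j => Finset.mem_range.2 ?_) hh
        have := congrFun h j
        have := congrFun e j
        simp only [Pi.add_apply] at *
        omega
    · rw [if_neg h]
      refine Finset.sum_eq_zero fun a ha => if_neg ?_
      rintro ⟨rfl, h2⟩
      simp only [Fintype.mem_piFinset, Finset.mem_range] at ha
      refine h (funext fun j => ?_)
      have := congrFun h2 j
      have := congrFun e j
      have := ha j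
      simp only [Pi.sub_apply, Pi.add_apply] at *
      omega

end Induction

/-- The primitive elements generate. -/
theorem primGen_of_killed [PerfectField k] [IsReduced A] (hk : Killed k A p) : PrimGen k A := by
  classical
  haveI : NeZero p := ⟨(Fact.out : p.Prime).ne_zero⟩
  set D := Algebra.adjoin k (prim k A : Set A) with hD
  let b := Module.Free.chooseBasis k (prim k A)
  have hDspan := span_bmono_eq p b (prim_stable p)
  suffices h : ∀ n, ∀ a ∈ UnipConil.filt k A n, a ∈ D by
    refine eq_top_iff.2 fun a _ => ?_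
    obtain ⟨n, hn⟩ := isConil_of_killed hk a
    exact h n a hn
  intro n
  induction n with
  | zero =>
    intro a ha
    obtain ⟨c, rfl⟩ := Submodule.mem_span_singleton.mp ha
    exact Subalgebra.smul_mem _ (one_mem _) c
  | succ n ih =>
    intro a ha
    have hcR : ∀ f : A →ₗ[k] k, cR f (comul (R := k) a) - f 1 • a ∈ D := by
      intro f
      have hf : (f - f 1 • counit (R := k) (A := A)) 1 = 0 := by simp
      have h := ih _ (UnipConil.cR_mem ha hf)
      have e : ∀ t : A ⊗[k] A, cR (f - f 1 • counit (R := k) (A := A)) t =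
          cR f t - f 1 • cR (counit (R := k) (A := A)) t := fun t => by
        induction t using TensorProduct.induction_on with
        | zero => simp
        | tmul x y => simp [sub_smul, smul_smul]
        | add x y hx hy => simp only [map_add, hx, hy, smul_add]; abel
      have hc : cR (counit (R := k) (A := A)) (comul (R := k) a) = a := by
        show TensorProduct.rid k A ((counit (R := k) (A := A)).lTensor A (comul (R := k) a)) = a
        simp
      rwa [e, hc] at h
    have hmem : comul (R := k) a - a ⊗ₜ[k] 1 - 1 ⊗ₜ[k] a ∈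
        LinearMap.range (TensorProduct.map D.toSubmodule.subtype D.toSubmodule.subtype) := by
      refine (mem_range_map_iff _ _ _).mpr ⟨fun f => ?_, fun f => ?_⟩
      · rw [map_sub, map_sub, cR_tmul, cR_tmul]
        exact sub_mem (hcR f) (Subalgebra.smul_mem _ (one_mem _) _)
      · rw [map_sub, map_sub, cL_tmul, cL_tmul, cL_comul_eq_cR, sub_right_comm]
        exact sub_mem (hcR f) (Subalgebra.smul_mem _ (one_mem _) _)
    -- finitely many monomials
    obtain ⟨T, hT⟩ : ∃ T : Finset (RExp p (Module.Free.ChooseBasisIndex k (prim k A))),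
        comul (R := k) a - a ⊗ₜ[k] 1 - 1 ⊗ₜ[k] a ∈
          Submodule.span k (Set.image2 (fun z z' : A => z ⊗ₜ[k] z') (bmono p b '' T) (bmono p b '' T)) := by
      obtain ⟨t, ht⟩ := hmem
      rw [← ht]
      clear ht
      induction t using TensorProduct.induction_on with
      | zero => exact ⟨∅, by simp⟩
      | tmul z z' =>
        obtain ⟨c, hc⟩ := (Finsupp.mem_span_range_iff_exists_finsupp (R := k)).1 (hDspan.ge z.2)
        obtain ⟨c', hc'⟩ := (Finsupp.mem_span_range_iff_exists_finsupp (R := k)).1 (hDspan.ge z'.2)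
        refine ⟨c.support ∪ c'.support, ?_⟩
        rw [TensorProduct.map_tmul, Submodule.subtype_apply, Submodule.subtype_apply, ← hc, ← hc', Finsupp.sum,
          Finsupp.sum, TensorProduct.sum_tmul]
        refine Submodule.sum_mem _ fun q hq => ?_
        rw [TensorProduct.tmul_sum]
        refine Submodule.sum_mem _ fun q' hq' => ?_
        rw [TensorProduct.tmul_smul, ← TensorProduct.smul_tmul', smul_smul]
        refine Submodule.smul_mem _ _ (Submodule.subset_span ?_)
        exact Set.mem_image2_of_mem ⟨q, by simp [hq], rfl⟩ ⟨q', by simp [hq'], rfl⟩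
      | add t t' h h' =>
        obtain ⟨T, hT⟩ := h
        obtain ⟨T', hT'⟩ := h'
        refine ⟨T ∪ T', ?_⟩
        rw [map_add]
        refine add_mem (Submodule.span_mono (Set.image2_subset ?_ ?_) hT) (Submodule.span_mono (Set.image2_subset ?_ ?_) hT')
        all_goals exact Set.image_mono (by simp)
    let s := T.biUnion fun q => q.1.support
    let x : s → A := fun i => (b i.1 : A)
    have hx : ∀ i, x i ∈ prim k A := fun i => (b i.1).2
    have hxli : LinearIndependent k x :=
      (b.linearIndependent.map' (prim k A).subtype (prim k A).ker_subtype).comp _ Subtype.val_injective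
    let MM : Submodule k (A ⊗[k] A) :=
      Submodule.span k (Set.range fun q : (s → Fin p) × (s → Fin p) => rmono p x q.1 ⊗ₜ[k] rmono p x q.2)
    have hTM : comul (R := k) a - a ⊗ₜ[k] 1 - 1 ⊗ₜ[k] a ∈ MM := by
      refine Submodule.span_mono ?_ hT
      rintro _ ⟨_, ⟨q, hq, rfl⟩, _, ⟨q', hq', rfl⟩, rfl⟩
      refine ⟨(fun i => ⟨q.1 i, q.2 i⟩, fun i => ⟨q'.1 i, q'.2 i⟩), ?_⟩
      rw [exists_rmono p b s q (fun j hj => Finset.mem_biUnion.2 ⟨q, hq, hj⟩),
        exists_rmono p b s q' (fun j hj => Finset.mem_biUnion.2 ⟨q', hq', hj⟩)]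
    -- dual coordinates
    have hex : ∀ i : s, ∃ f : A →ₗ[k] k, ∀ c : s → Fin p,
        f (rmono p x c) = if (fun j => (c j : ℕ)) = Pi.single i 1 then 1 else 0 := by
      intro i
      obtain ⟨f, hf⟩ := exists_dual p hx hxli (Pi.single i ⟨1, (Fact.out : p.Prime).one_lt⟩)
      refine ⟨f, fun c => (hf c).trans (if_congr ⟨fun h => h ▸ funext fun j => ?_, fun h => funext fun j => Fin.ext ?_⟩ rfl rfl)⟩
      · rcases eq_or_ne j i with rfl | hne <;> simp [*]
      · have := congrFun h j
        rcases eq_or_ne j i with rfl | hne <;> simp [*] at this ⊢ <;> simp [this]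
    choose f hf using hex
    let Y : (s → ℕ) → WithConv (A →ₗ[k] k) := fun m => ∏ i, toConv (f i) ^ m i
    have hY : ∀ (m : s → ℕ) (m' : s → Fin p), Y m (rmono p x m') =
        if (fun i => (m' i : ℕ)) = m then ((∏ i, (m i).factorial : ℕ) : k) else 0 :=
      fun m m' => ymono_rmono hx _ hf _ m rfl m'
    have hf1 : ∀ i, f i 1 = 0 := fun i => by
      have := hf i 0
      rw [if_neg (fun h => by have := congrFun h i; simp at this)] at this
      simpa [rmono, mono] using this
    have hfact : ∀ m : s → Fin p, ((∏ i, (m i : ℕ).factorial : ℕ) : k) ≠ 0 := by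
      intro m h
      rw [CharP.cast_eq_zero_iff k p] at h
      obtain ⟨i, -, hi⟩ := (Fact.out : p.Prime).prime.exists_mem_finset_dvd h
      have := (Nat.Prime.dvd_factorial Fact.out).1 hi
      have := (m i).isLt
      omega
    let mm : A := ∑ m : s → Fin p,
      ((((∏ i, (m i : ℕ).factorial : ℕ) : k))⁻¹ * Y (fun i => m i) a) • rmono p x m
    let d := a - mm
    have hYd : ∀ m : s → ℕ, Y m d = 0 := by
      intro m
      by_cases hm : ∀ i, m i < p
      · let m₀ : s → Fin p := fun i => ⟨m i, hm i⟩
        simp only [d, mm, map_sub, map_sum, map_smul, hY, smul_eq_mul]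
        rw [Finset.sum_eq_single m₀ (fun q _ hq => by
            rw [if_neg (fun h => hq (funext fun i => Fin.ext (congrFun h i))), mul_zero])
          (fun h => absurd (Finset.mem_univ _) h), if_pos rfl]
        have := hfact m₀
        simp only [m₀] at this ⊢
        field_simp
        ring
      · push Not at hm
        obtain ⟨i, hi⟩ := hm
        obtain ⟨r, hr⟩ := Nat.exists_eq_add_of_le hi
        have e : Y m = toConv (f i) ^ p * (toConv (f i) ^ r * ∏ j ∈ Finset.univ.erase i, toConv (f j) ^ m j) := by
          rw [← mul_assoc, ← pow_add, ← hr, Finset.mul_prod_erase _ (fun j => toConv (f j) ^ m j) (Finset.mem_univ i)]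
        have hzero : toConv (f i) ^ p = 0 :=
          WithConv.ofConv_injective (LinearMap.ext fun c => pow_p_eq_zero hk _ (hf1 i) c)
        rw [e, hzero, zero_mul]
        rfl
    have hdprim : d ∈ prim k A := by
      rw [mem_prim, ← sub_eq_zero, ← sub_sub]
      have hdM : comul (R := k) d - d ⊗ₜ[k] 1 - 1 ⊗ₜ[k] d ∈ MM := by
        have h0 : rmono p x (0 : s → Fin p) = 1 := by simp [rmono, mono]
        have hmm : comul (R := k) mm - mm ⊗ₜ[k] 1 - 1 ⊗ₜ[k] mm ∈ MM := by
          simp only [mm, map_sum, TensorProduct.sum_tmul, TensorProduct.tmul_sum]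
          rw [← Finset.sum_sub_distrib, ← Finset.sum_sub_distrib]
          refine Submodule.sum_mem _ fun m _ => ?_
          rw [map_smul, ← TensorProduct.smul_tmul', TensorProduct.tmul_smul, ← smul_sub, ← smul_sub]
          refine Submodule.smul_mem _ _ (sub_mem (sub_mem ?_ (Submodule.subset_span ⟨(m, 0), by simp [h0]⟩))
            (Submodule.subset_span ⟨(0, m), by simp [h0]⟩))
          rw [rmono, comul_mono hx]
          refine Submodule.sum_mem _ fun c hc => nsmul_mem ?_ _
          simp only [Fintype.mem_piFinset, Finset.mem_range] at hc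
          exact Submodule.subset_span ⟨(fun j => ⟨c j, by have := hc j; have := (m j).isLt; omega⟩,
            fun j => ⟨(m j : ℕ) - c j, lt_of_le_of_lt (Nat.sub_le _ _) (m j).isLt⟩), rfl⟩
        have e : comul (R := k) d - d ⊗ₜ[k] 1 - 1 ⊗ₜ[k] d = (comul (R := k) a - a ⊗ₜ[k] 1 - 1 ⊗ₜ[k] a) -
            (comul (R := k) mm - mm ⊗ₜ[k] 1 - 1 ⊗ₜ[k] mm) := by
          simp only [d, map_sub, TensorProduct.sub_tmul, TensorProduct.tmul_sub]
          abel
        rw [e]
        exact sub_mem hTM hmm
      obtain ⟨C, hC⟩ := (Submodule.mem_span_range_iff_exists_fun k).1 hdM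
      rw [← hC]
      refine Finset.sum_eq_zero fun q _ => ?_
      suffices C q = 0 by rw [this, zero_smul]
      have h := congrArg (fun t => LinearMap.mul' k k
        (TensorProduct.map (Y fun i => q.1 i).ofConv (Y fun i => q.2 i).ofConv t)) hC
      simp only [map_sum, map_smul, TensorProduct.map_tmul, LinearMap.mul'_apply, map_sub, hY, smul_eq_mul] at h
      rw [← LinearMap.convMul_apply, hYd, hYd] at h
      have hprod : (Y fun i => (q.1 i : ℕ)) * (Y fun i => (q.2 i : ℕ)) = Y (fun i => (q.1 i : ℕ) + q.2 i) := by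
        simp only [Y, pow_add, Finset.prod_mul_distrib]
      rw [hprod, hYd, zero_mul, mul_zero, sub_zero, sub_zero, Finset.sum_eq_single q (fun r _ hr => ?_)
        (fun hh => absurd (Finset.mem_univ _) hh), if_pos rfl, if_pos rfl] at h
      · exact (mul_eq_zero.1 h).resolve_right (mul_ne_zero (hfact q.1) (hfact q.2))
      · by_cases h1 : (fun i => (r.1 i : ℕ)) = fun i => (q.1 i : ℕ)
        · rw [if_neg (c := (fun i => (r.2 i : ℕ)) = fun i => (q.2 i : ℕ)) fun h2 => hr
            (Prod.ext (funext fun i => Fin.ext (congrFun h1 i)) (funext fun i => Fin.ext (congrFun h2 i))),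
            mul_zero, mul_zero]
        · rw [if_neg h1, zero_mul, mul_zero]
    rw [show a = d + mm from (sub_add_cancel _ _).symm]
    refine add_mem (Algebra.subset_adjoin hdprim) (Subalgebra.sum_mem _ fun m _ => Subalgebra.smul_mem _ ?_ _)
    rw [rmono, mono]
    exact Subalgebra.prod_mem _ fun i _ => pow_mem (Algebra.subset_adjoin (hx i)) _

end Groth.Agent.PRed
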