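import Groth.Agent.PRed.Mono
import Mathlib.FieldTheory.Perfect
import Mathlib.FieldTheory.PurelyInseparable.PerfectClosure

/-!
# Primitive elements as a module over the twisted polynomial ring

Everything is phrased with finitely supported families of coefficients `ℕ →₀ k` of additive polynomials.
-/

set_option autoImplicit false
set_option linter.unusedSectionVars false

universe u v w

open TensorProduct Coalgebra
open Groth.Agent.UnipZero (prim mem_prim counit_prim)

noncomputable section

namespace Groth.Agent.PRed

section Coeff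

variable {k : Type u} [Field k] (p : ℕ) [Fact p.Prime] [CharP k p]

/-- The Frobenius operator on additive polynomials. -/
def sh (f : ℕ →₀ k) : ℕ →₀ k :=
  Finsupp.mapDomain Nat.succ (Finsupp.mapRange (fun c => c ^ p) (zero_pow (Fact.out : p.Prime).ne_zero) f)

theorem sh_succ (f : ℕ →₀ k) (e : ℕ) : sh p f (e + 1) = f e ^ p := by
  rw [sh, Finsupp.mapDomain_apply Nat.succ_injective, Finsupp.mapRange_apply]

theorem sh_zero (f : ℕ →₀ k) : sh p f 0 = 0 := by
  rw [sh, Finsupp.mapDomain_of_notMem_range]
  simp

theorem sh_single (e : ℕ) (c : k) : sh p (Finsupp.single e c) = Finsupp.single (e + 1) (c ^ p) := by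
  rw [sh, Finsupp.mapRange_single, Finsupp.mapDomain_single]

theorem sh_add (f g : ℕ →₀ k) : sh p (f + g) = sh p f + sh p g := by
  ext (_ | e) <;> simp [sh_succ, sh_zero, add_pow_char]

theorem sh_map_zero : sh p (0 : ℕ →₀ k) = 0 := by ext (_ | e) <;> simp [sh_succ, sh_zero, (Fact.out : p.Prime).ne_zero]

theorem sh_sub (f g : ℕ →₀ k) : sh p (f - g) = sh p f - sh p g := by
  rw [eq_sub_iff_add_eq, ← sh_add, sub_add_cancel]

theorem sh_smul (c : k) (f : ℕ →₀ k) : sh p (c • f) = c ^ p • sh p f := by
  ext (_ | e) <;> simp [sh_succ, sh_zero, mul_pow]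

theorem sh_sum {ι : Type*} (s : Finset ι) (f : ι → ℕ →₀ k) : sh p (∑ i ∈ s, f i) = ∑ i ∈ s, sh p (f i) := by
  classical
  induction s using Finset.induction_on with
  | empty => simp [sh_map_zero]
  | insert i s hi ih => rw [Finset.sum_insert hi, Finset.sum_insert hi, sh_add, ih]

theorem iterate_sh_apply (j : ℕ) (f : ℕ →₀ k) (e : ℕ) :
    ((sh p)^[j] f) e = if j ≤ e then f (e - j) ^ p ^ j else 0 := by
  induction j generalizing e with
  | zero => simp
  | succ j ih =>
    rw [Function.iterate_succ_apply']
    cases e with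
    | zero => simp [sh_zero]
    | succ e =>
      rw [sh_succ, ih]
      by_cases h : j ≤ e
      · simp [h, ← pow_mul, pow_succ]
      · simp [h, (Fact.out : p.Prime).ne_zero]

/-- Right multiplication by an additive polynomial. -/
def genF (g : ℕ →₀ k) : (ℕ →₀ k) →ₗ[k] (ℕ →₀ k) := Finsupp.linearCombination k fun e => (sh p)^[e] g

theorem genF_single (g : ℕ →₀ k) (e : ℕ) (c : k) : genF p g (Finsupp.single e c) = c • (sh p)^[e] g := by
  simp [genF]

theorem genF_sh (g q : ℕ →₀ k) : genF p g (sh p q) = sh p (genF p g q) := by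
  induction q using Finsupp.induction_linear with
  | zero => simp [sh_map_zero]
  | add a b ha hb => rw [sh_add, map_add, map_add, ha, hb, sh_add]
  | single e c => rw [sh_single, genF_single, genF_single, Function.iterate_succ_apply', sh_smul]

theorem genF_apply_top {g q : ℕ →₀ k} {n M : ℕ} (hg : ∀ e, n < e → g e = 0) (hq : ∀ e, M < e → q e = 0) :
    genF p g q (M + n) = q M * g n ^ p ^ M ∧ ∀ e, M + n < e → genF p g q e = 0 := by
  classical
  have key : ∀ e, genF p g q e = q.sum fun i c => c * ((sh p)^[i] g) e := fun e => by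
    simp [genF, Finsupp.linearCombination_apply, Finsupp.sum, Finsupp.finsetSum_apply]
  refine ⟨?_, fun e he => ?_⟩
  · rw [key, Finsupp.sum, Finset.sum_eq_single M (fun i hi hne => ?_) (fun h => by
      rw [Finsupp.notMem_support_iff.1 h, zero_mul])]
    · rw [iterate_sh_apply, if_pos (by omega), show M + n - M = n by omega]
    · have hiM : i ≤ M := by by_contra h; exact Finsupp.mem_support_iff.1 hi (hq i (by omega))
      rw [iterate_sh_apply, if_pos (by omega), hg _ (by omega), zero_pow (pow_ne_zero _ (Fact.out : p.Prime).ne_zero),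
        mul_zero]
  · rw [key]
    refine Finset.sum_eq_zero fun i hi => ?_
    have hiM : i ≤ M := by by_contra h; exact Finsupp.mem_support_iff.1 hi (hq i (by omega))
    simp only [iterate_sh_apply]
    rw [if_pos (by omega), hg _ (by omega), zero_pow (pow_ne_zero _ (Fact.out : p.Prime).ne_zero), mul_zero]

theorem exists_top {q : ℕ →₀ k} (hq : q ≠ 0) : ∃ M, q M ≠ 0 ∧ ∀ e, M < e → q e = 0 := by
  have hne : q.support.Nonempty := Finsupp.support_nonempty_iff.2 hq
  exact ⟨q.support.max' hne, Finsupp.mem_support_iff.1 (q.support.max'_mem hne), fun e he =>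
    Finsupp.notMem_support_iff.1 fun h => absurd (q.support.le_max' e h) (by omega)⟩

theorem genF_injective {g : ℕ →₀ k} (hg : g ≠ 0) : Function.Injective (genF p g) := by
  refine (injective_iff_map_eq_zero _).2 fun q hq => ?_
  by_contra h
  obtain ⟨M, hM, hM'⟩ := exists_top h
  obtain ⟨n, hn, hn'⟩ := exists_top hg
  have := (genF_apply_top p hn' hM').1
  rw [hq] at this
  exact mul_ne_zero hM (pow_ne_zero _ hn) this.symm

theorem coeff_retraction {K : Type v} [Field K] [Algebra k K] [Algebra.IsSeparable k K] [CharP K p] {a : ℕ →₀ K}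
    (ha : a ≠ 0) :
    ∃ R : (ℕ →₀ K) →ₗ[k] (ℕ →₀ k), (∀ q, R (sh p q) = sh p (R q)) ∧ R a ≠ 0 := by
  classical
  haveI : ExpChar k p := ExpChar.prime Fact.out
  let b := Module.Free.chooseBasis k K
  let bp : ℕ → Module.Basis _ k K := fun e => b.mapPowExpCharPowOfIsSeparable p e
  have hbp : ∀ e j, bp e j = b j ^ p ^ e := fun e j => Module.Basis.mk_apply _ _ j
  obtain ⟨i, hi, -⟩ := exists_top ha
  obtain ⟨j, hj⟩ : ∃ j, (bp i).repr (a i) j ≠ 0 := by
    by_contra h
    push Not at h
    exact hi ((bp i).repr.injective (Finsupp.ext fun j => by simp [h j]))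
  let R : (ℕ →₀ K) →ₗ[k] (ℕ →₀ k) := Finsupp.lsum k fun e => Finsupp.lsingle e ∘ₗ (bp e).coord j
  have hR : ∀ (q : ℕ →₀ K) (e : ℕ), R q e = (bp e).repr (q e) j := by
    intro q e
    induction q using Finsupp.induction_linear with
    | zero => simp
    | add x y hx hy => simp [hx, hy]
    | single e' c =>
      rcases eq_or_ne e e' with rfl | hne <;> simp [R, Finsupp.single_apply, *, eq_comm]
  have hfrob : ∀ (e : ℕ) (y : K), (bp (e + 1)).repr (y ^ p) j = ((bp e).repr y j) ^ p := by
    intro e y
    have hy := (bp e).linearCombination_repr y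
    rw [Finsupp.linearCombination_apply, Finsupp.sum] at hy
    conv_lhs => rw [← hy, sum_pow_char, map_sum]
    simp only [smul_pow, hbp, ← pow_mul, ← pow_succ, map_smul, Finsupp.coe_finsetSum, Finset.sum_apply,
      Finsupp.smul_apply, smul_eq_mul]
    simp only [← hbp, Module.Basis.repr_self, Finsupp.single_apply, mul_ite, mul_one, mul_zero, Finset.sum_ite_eq',
      Finsupp.mem_support_iff]
    split_ifs with h
    · rfl
    · rw [not_not] at h; rw [h, zero_pow (Fact.out : p.Prime).ne_zero]
  refine ⟨R, fun q => Finsupp.ext fun e => ?_, fun h => hj (by rw [← hR, h, Finsupp.zero_apply])⟩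
  cases e with
  | zero => rw [hR, sh_zero, sh_zero, map_zero, Finsupp.zero_apply]
  | succ e => rw [hR, sh_succ, sh_succ, hR, hfrob]

end Coeff

variable {k : Type u} [Field k] (p : ℕ) [Fact p.Prime] [CharP k p] {A : Type v} [CommRing A] [Bialgebra k A]

/-- The `p`-th power on primitive elements. -/
def fp (a : prim k A) : prim k A := ⟨(a : A) ^ p, prim_stable (k := k) (A := A) p (a : A) a.2⟩

@[simp] theorem coe_fp (a : prim k A) : (fp p a : A) = (a : A) ^ p := rfl

theorem fp_add (a b : prim k A) : fp p (a + b) = fp p a + fp p b := by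
  haveI : Nontrivial A := (Bialgebra.counitAlgHom k A).toRingHom.domain_nontrivial
  haveI : CharP A p := charP_of_injective_algebraMap (algebraMap k A).injective p
  exact Subtype.ext (by simp [add_pow_char])

theorem fp_smul (c : k) (a : prim k A) : fp p (c • a) = c ^ p • fp p a := Subtype.ext (by simp [smul_pow])

theorem fp_zero : fp p (0 : prim k A) = 0 := Subtype.ext (by simp [(Fact.out : p.Prime).ne_zero])

theorem fp_sub (a b : prim k A) : fp p (a - b) = fp p a - fp p b := by
  rw [eq_sub_iff_add_eq, ← fp_add, sub_add_cancel]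

theorem fp_sum {ι : Type*} (s : Finset ι) (f : ι → prim k A) : fp p (∑ i ∈ s, f i) = ∑ i ∈ s, fp p (f i) := by
  classical
  induction s using Finset.induction_on with
  | empty => simp [fp_zero]
  | insert i s hi ih => rw [Finset.sum_insert hi, Finset.sum_insert hi, fp_add, ih]

theorem coe_iterate_fp (e : ℕ) (a : prim k A) : (((fp p)^[e] a : prim k A) : A) = (a : A) ^ p ^ e := by
  induction e with
  | zero => simp
  | succ e ih => rw [Function.iterate_succ_apply', coe_fp, ih, ← pow_mul, ← pow_succ]

/-- Equivariance. -/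
def IsFEq (f : prim k A →ₗ[k] (ℕ →₀ k)) : Prop := ∀ a, f (fp p a) = sh p (f a)

/-- An additive polynomial evaluated at a primitive element. -/
def gen (x : prim k A) : (ℕ →₀ k) →ₗ[k] prim k A := Finsupp.linearCombination k fun e => (fp p)^[e] x

theorem gen_single (x : prim k A) (e : ℕ) (c : k) : gen p x (Finsupp.single e c) = c • (fp p)^[e] x := by simp [gen]

theorem gen_sh (x : prim k A) (q : ℕ →₀ k) : gen p x (sh p q) = fp p (gen p x q) := by
  induction q using Finsupp.induction_linear with
  | zero => simp [sh_map_zero, fp_zero]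
  | add a b ha hb => rw [sh_add, map_add, map_add, ha, hb, fp_add]
  | single e c => rw [sh_single, gen_single, gen_single, Function.iterate_succ_apply', fp_smul]

theorem map_gen {f : prim k A →ₗ[k] (ℕ →₀ k)} (hf : IsFEq p f) (x : prim k A) (q : ℕ →₀ k) :
    f (gen p x q) = genF p (f x) q := by
  induction q using Finsupp.induction_linear with
  | zero => simp
  | add a b ha hb => simp [ha, hb]
  | single e c =>
    rw [gen_single, genF_single, map_smul]
    congr 1
    induction e with
    | zero => rfl
    | succ e ih => rw [Function.iterate_succ_apply', Function.iterate_succ_apply', hf, ih]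

theorem gen_genF (x : prim k A) (g q : ℕ →₀ k) : gen p x (genF p g q) = gen p (gen p x g) q := by
  induction q using Finsupp.induction_linear with
  | zero => simp
  | add a b ha hb => simp [ha, hb]
  | single e c =>
    rw [genF_single, gen_single, map_smul]
    congr 1
    induction e with
    | zero => rfl
    | succ e ih => rw [Function.iterate_succ_apply', Function.iterate_succ_apply', gen_sh, ih]

theorem iterate_fp_add (d : ℕ) (a b : prim k A) : (fp p)^[d] (a + b) = (fp p)^[d] a + (fp p)^[d] b := by
  induction d with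
  | zero => rfl
  | succ d ih => simp only [Function.iterate_succ_apply', ih, fp_add]

theorem gen_add (a b : prim k A) (v : ℕ →₀ k) : gen p (a + b) v = gen p a v + gen p b v := by
  induction v using Finsupp.induction_linear with
  | zero => simp
  | add x y hx hy => simp only [map_add, hx, hy]; abel
  | single d w => rw [gen_single, gen_single, gen_single, iterate_fp_add, smul_add]

theorem genF_one (q : ℕ →₀ k) : genF p (Finsupp.single 0 1) q = q := by
  induction q using Finsupp.induction_linear with
  | zero => simp
  | add a b ha hb => simp [ha, hb]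
  | single e c =>
    rw [genF_single, show (sh p)^[e] (Finsupp.single 0 (1 : k)) = Finsupp.single e 1 from ?_, Finsupp.smul_single,
      smul_eq_mul, mul_one]
    induction e with
    | zero => rfl
    | succ e ih => rw [Function.iterate_succ_apply', ih, sh_single, one_pow]

theorem genF_zero (q : ℕ →₀ k) : genF p (0 : ℕ →₀ k) q = 0 := by
  induction q using Finsupp.induction_linear with
  | zero => simp
  | add a b ha hb => simp [ha, hb]
  | single e c =>
    rw [genF_single, show (sh p)^[e] (0 : ℕ →₀ k) = 0 from ?_, smul_zero]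
    exact Function.iterate_fixed (sh_map_zero p) e

/-- The image of an equivariant functional is principal. -/
theorem exists_principal {f : prim k A →ₗ[k] (ℕ →₀ k)} (hf : IsFEq p f) (hne : f ≠ 0) :
    ∃ (x : prim k A) (h : prim k A →ₗ[k] (ℕ →₀ k)), IsFEq p h ∧ h x = Finsupp.single 0 1 ∧
      ∀ a, f a = 0 → h a = 0 := by
  classical
  have hex : ∃ n, ∃ a, f a n ≠ 0 ∧ ∀ e, n < e → f a e = 0 := by
    obtain ⟨a, ha⟩ : ∃ a, f a ≠ 0 := by
      by_contra h
      push Not at h
      exact hne (LinearMap.ext h)
    obtain ⟨M, h1, h2⟩ := exists_top ha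
    exact ⟨M, a, h1, h2⟩
  obtain ⟨x, hx, hx'⟩ := Nat.find_spec hex
  set n := Nat.find hex
  have hg : f x ≠ 0 := fun h => hx (by rw [h, Finsupp.zero_apply])
  have hmem : ∀ N a, (∀ e, N ≤ e → f a e = 0) → f a ∈ LinearMap.range (genF p (f x)) := by
    intro N
    induction N with
    | zero => intro a ha; rw [show f a = 0 from Finsupp.ext fun e => ha e (Nat.zero_le e)]; exact zero_mem _
    | succ N ih =>
      intro a ha
      by_cases hN : f a N = 0
      · exact ih a fun e he => (Nat.eq_or_lt_of_le he).elim (fun h => h ▸ hN) fun h => ha e h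
      have hnN : n ≤ N := Nat.find_min' hex ⟨a, hN, fun e he => ha e he⟩
      let q : ℕ →₀ k := Finsupp.single (N - n) (f a N / f x n ^ p ^ (N - n))
      obtain ⟨h1, h2⟩ := genF_apply_top p (g := f x) (q := q) (n := n) (M := N - n) hx' (fun e he => by
        simp only [q, Finsupp.single_apply]
        rw [if_neg (by omega)])
      rw [show N - n + n = N by omega] at h1 h2
      have hq : f (a - gen p x q) ∈ LinearMap.range (genF p (f x)) := by
        refine ih _ fun e he => ?_
        rw [map_sub, map_gen p hf, Finsupp.sub_apply]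
        rcases Nat.eq_or_lt_of_le he with rfl | he
        · rw [h1]
          simp [q, pow_ne_zero _ hx]
        · rw [ha e he, h2 e he, sub_self]
      rw [show f a = f (a - gen p x q) + genF p (f x) q by rw [map_sub, map_gen p hf, sub_add_cancel]]
      exact add_mem hq ⟨q, rfl⟩
  have hall : ∀ a, f a ∈ LinearMap.range (genF p (f x)) := fun a =>
    hmem ((f a).support.sup id + 1) a fun e he => Finsupp.notMem_support_iff.1 fun h => by
      have : e ≤ (f a).support.sup id := Finset.le_sup (f := id) h
      omega
  let E := LinearEquiv.ofInjective (genF p (f x)) (genF_injective p hg)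
  let h : prim k A →ₗ[k] (ℕ →₀ k) := E.symm.toLinearMap ∘ₗ f.codRestrict _ hall
  have hh : ∀ a, genF p (f x) (h a) = f a := fun a => congrArg Subtype.val (E.apply_symm_apply ⟨f a, hall a⟩)
  refine ⟨x, h, fun a => genF_injective p hg (by rw [hh, genF_sh, hh, hf]), genF_injective p hg ?_, fun a ha => ?_⟩
  · rw [hh, genF_single, one_smul]; rfl
  · exact genF_injective p hg (by rw [hh, ha, map_zero])

variable (k A) in
/-- A split free direct summand of the primitive elements. -/
structure Split (r : ℕ) where
  /-- The basis. -/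
  e : Fin r → prim k A
  /-- The coordinates. -/
  c : Fin r → (prim k A →ₗ[k] (ℕ →₀ k))
  equiv : ∀ i, IsFEq p (c i)
  dual : ∀ i j, c i (e j) = if i = j then Finsupp.single 0 1 else 0

variable {p}

namespace Split

variable {r : ℕ} (S : Split k p A r)

theorem c_gen (i j : Fin r) (q : ℕ →₀ k) : S.c i (gen p (S.e j) q) = if i = j then q else 0 := by
  rw [map_gen p (S.equiv i), S.dual]
  by_cases h : i = j
  · rw [if_pos h, if_pos h, genF_one]
  · rw [if_neg h, if_neg h, genF_zero]

/-- The projection onto the complement. -/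
def proj : prim k A →ₗ[k] prim k A := LinearMap.id - ∑ i, gen p (S.e i) ∘ₗ S.c i

theorem proj_apply (a : prim k A) : S.proj a = a - ∑ i, gen p (S.e i) (S.c i a) := by simp [proj]

theorem proj_fp (a : prim k A) : S.proj (fp p a) = fp p (S.proj a) := by
  rw [proj_apply, proj_apply, fp_sub, fp_sum]
  refine congrArg (fp p a - ·) (Finset.sum_congr rfl fun i _ => ?_)
  rw [S.equiv i, gen_sh]

theorem c_proj (i : Fin r) (a : prim k A) : S.c i (S.proj a) = 0 := by
  simp [proj_apply, map_sum, c_gen]

theorem proj_gen (j : Fin r) (q : ℕ →₀ k) : S.proj (gen p (S.e j) q) = 0 := by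
  rw [proj_apply, Finset.sum_eq_single j (fun i _ hi => by rw [c_gen, if_neg hi, map_zero])
    (fun h => absurd (Finset.mem_univ j) h), c_gen, if_pos rfl, sub_self]

theorem proj_e (j : Fin r) : S.proj (S.e j) = 0 := by
  have h : gen p (S.e j) (Finsupp.single 0 1) = S.e j := by rw [gen_single, one_smul]; rfl
  rw [← h, proj_gen]

theorem proj_proj (a : prim k A) : S.proj (S.proj a) = S.proj a := by
  rw [proj_apply S (S.proj a)]
  simp [c_proj]

theorem le_card (S : Split k p A r) {S₀ : Finset (prim k A)}
    (hgen : ⊤ ≤ Submodule.span k (Set.range fun q : S₀ × ℕ => (fp p)^[q.2] (q.1 : prim k A))) : r ≤ S₀.card := by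
  classical
  let T : prim k A →ₗ[k] (Fin r → k) := LinearMap.pi fun i => Finsupp.lapply 0 ∘ₗ S.c i
  have hT0 : ∀ a, T (fp p a) = 0 := fun a => funext fun i => by simp [T, S.equiv i a, sh_zero]
  have hle : LinearMap.range T ≤ Submodule.span k (T '' (S₀ : Set (prim k A))) := by
    rintro _ ⟨a, rfl⟩
    have ha := hgen (Submodule.mem_top (x := a))
    induction ha using Submodule.span_induction with
    | mem y hy =>
      obtain ⟨⟨s, e⟩, rfl⟩ := hy
      cases e with
      | zero => exact Submodule.subset_span ⟨s, s.2, rfl⟩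
      | succ e => simp only [Function.iterate_succ_apply']; rw [hT0]; exact zero_mem _
    | zero => simp
    | add x y _ _ hx hy => rw [map_add]; exact add_mem hx hy
    | smul c x _ hx => rw [map_smul]; exact Submodule.smul_mem _ c hx
  have htop : LinearMap.range T = ⊤ := by
    refine eq_top_iff.2 ((Pi.basisFun k (Fin r)).span_eq.ge.trans (Submodule.span_le.2 ?_))
    rintro _ ⟨j, rfl⟩
    refine ⟨S.e j, funext fun i => ?_⟩
    simp [T, S.dual, Pi.single_apply]
    split_ifs <;> simp
  have h1 : Module.finrank k (Submodule.span k (T '' (S₀ : Set (prim k A)))) ≤ S₀.card := by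
    rw [← Finset.coe_image]
    exact (finrank_span_finset_le_card _).trans Finset.card_image_le
  rw [htop, top_le_iff] at hle
  rw [hle, finrank_top, Module.finrank_fin_fun] at h1
  exact h1

end Split

/-- A maximal free direct summand. -/
theorem exists_maximal_split {S₀ : Finset (prim k A)}
    (hgen : ⊤ ≤ Submodule.span k (Set.range fun q : S₀ × ℕ => (fp p)^[q.2] (q.1 : prim k A))) :
    ∃ (r : ℕ) (S : Split k p A r), ∀ f, IsFEq p f → ∀ a, f (S.proj a) = 0 := by
  classical
  by_contra hcon
  push Not at hcon
  suffices ∀ r, Nonempty (Split k p A r) by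
    obtain ⟨S⟩ := this (S₀.card + 1)
    have := S.le_card hgen
    omega
  intro r
  induction r with
  | zero => exact ⟨⟨fun i => i.elim0, fun i => i.elim0, fun i => i.elim0, fun i => i.elim0⟩⟩
  | succ r ih =>
    obtain ⟨S⟩ := ih
    obtain ⟨f, hf, a, ha⟩ := hcon r S
    have hf' : IsFEq p (f ∘ₗ S.proj) := fun b => by simp [S.proj_fp, hf _]
    have hne : f ∘ₗ S.proj ≠ 0 := fun h => ha (LinearMap.congr_fun h a)
    obtain ⟨x, h, hh, hx, hker⟩ := exists_principal p hf' hne
    have hhx : h (S.proj x) = Finsupp.single 0 1 := by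
      rw [← hx, ← sub_eq_zero, ← map_sub]
      exact hker _ (by simp [S.proj_proj])
    refine ⟨⟨Fin.snoc S.e (S.proj x), Fin.snoc S.c h, fun i => ?_, fun i j => ?_⟩⟩
    · induction i using Fin.lastCases with
      | last => simpa using hh
      | cast i => simpa using S.equiv i
    · induction i using Fin.lastCases with
      | last =>
        induction j using Fin.lastCases with
        | last => simpa using hhx
        | cast j =>
          simp only [Fin.snoc_last, Fin.snoc_castSucc, (Fin.castSucc_lt_last j).ne', if_false]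
          exact hker _ (by simp [S.proj_e])
      | cast i =>
        induction j using Fin.lastCases with
        | last => simp [(Fin.castSucc_lt_last i).ne, S.c_proj]
        | cast j => simp [S.dual, Fin.castSucc_inj]

/-- Over a perfect field torsion-free finitely generated gives free. -/
theorem exists_split_of_perfect [PerfectField k] {S₀ : Finset (prim k A)}
    (hgen : ⊤ ≤ Submodule.span k (Set.range fun q : S₀ × ℕ => (fp p)^[q.2] (q.1 : prim k A)))
    (htf : ∀ (x : prim k A) (q : ℕ →₀ k), q ≠ 0 → gen p x q = 0 → x = 0) :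
    ∃ (r : ℕ) (S : Split k p A r), ∀ a, S.proj a = 0 := by
  classical
  haveI : ExpChar k p := ExpChar.prime Fact.out
  haveI : PerfectRing k p := PerfectField.toPerfectRing p
  let G : ∀ {r : ℕ}, (Fin r → prim k A) → ((Fin r → ℕ →₀ k) →ₗ[k] prim k A) := fun {r} e =>
    ∑ i, gen p (e i) ∘ₗ LinearMap.proj i
  have hGa : ∀ {r : ℕ} (e : Fin r → prim k A) (q : Fin r → ℕ →₀ k), G e q = ∑ i, gen p (e i) (q i) := by
    intro r e q; simp [G]
  have hGs : ∀ {r : ℕ} (e : Fin r → prim k A) (i : Fin r) (q : ℕ →₀ k), G e (Pi.single i q) = gen p (e i) q := by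
    intro r e i q
    rw [hGa, Finset.sum_eq_single i (fun j _ hj => by simp [hj]) (fun h => absurd (Finset.mem_univ i) h)]
    simp
  have hex : ∃ r, ∃ e : Fin r → prim k A, Function.Surjective (G e) := by
    refine ⟨S₀.card, fun i => (S₀.equivFin.symm i : prim k A), fun a => ?_⟩
    have ha := hgen (Submodule.mem_top (x := a))
    refine (Submodule.span_le (p := LinearMap.range (G fun i => (S₀.equivFin.symm i : prim k A)))).2 ?_ ha
    rintro _ ⟨⟨s, e⟩, rfl⟩
    exact ⟨Pi.single (S₀.equivFin s) (Finsupp.single e 1), by simp [hGs, gen_single]⟩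
  obtain ⟨e₀, he₀⟩ := Nat.find_spec hex
  have hmin : ∀ m, m < Nat.find hex → ¬ ∃ e : Fin m → prim k A, Function.Surjective (G e) := fun m hm => Nat.find_min hex hm
  generalize Nat.find hex = r at e₀ he₀ hmin
  let μ : (ℕ →₀ k) → ℕ := fun q => q.support.sup (· + 1)
  have hμ : ∀ (q : ℕ →₀ k) (e : ℕ), μ q ≤ e → q e = 0 := fun q e he => Finsupp.notMem_support_iff.1 fun h => by
    have : e + 1 ≤ μ q := Finset.le_sup (f := (· + 1)) h
    omega
  have hμle : ∀ (q : ℕ →₀ k) (M : ℕ), (∀ e, M ≤ e → q e = 0) → μ q ≤ M := fun q M h => Finset.sup_le fun e he => by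
    by_contra hh
    exact Finsupp.mem_support_iff.1 he (h e (by omega))
  have hinj : ∀ n, ∀ e : Fin r → prim k A, Function.Surjective (G e) →
      ∀ q : Fin r → ℕ →₀ k, ∑ i, μ (q i) = n → G e q = 0 → q = 0 := by
    intro n
    induction n using Nat.strong_induction_on with
    | _ n ih =>
      intro e he q hn hq
      by_contra hne
      obtain ⟨i₁, hi₁⟩ : ∃ i, q i ≠ 0 := by
        by_contra h; push Not at h; exact hne (funext h)
      by_cases h2 : ∃ j, j ≠ i₁ ∧ q j ≠ 0
      · obtain ⟨j₁, hj₁, hqj⟩ := h2
        -- order the two by their top degrees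
        obtain ⟨i, j, hij, hqi, hqj', hdeg⟩ : ∃ i j, i ≠ j ∧ q i ≠ 0 ∧ q j ≠ 0 ∧ μ (q j) ≤ μ (q i) := by
          rcases le_total (μ (q j₁)) (μ (q i₁)) with h | h
          exacts [⟨i₁, j₁, hj₁.symm, hi₁, hqj, h⟩, ⟨j₁, i₁, hj₁, hqj, hi₁, h⟩]
        obtain ⟨M, hM, hM'⟩ := exists_top hqi
        obtain ⟨L, hL, hL'⟩ := exists_top hqj'
        have hMμ : μ (q i) = M + 1 := le_antisymm (hμle _ _ fun e he => hM' e he)
          (Nat.lt_of_not_le fun h => hM (hμ _ _ h))
        have hLμ : μ (q j) = L + 1 := le_antisymm (hμle _ _ fun e he => hL' e he)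
          (Nat.lt_of_not_le fun h => hL (hμ _ _ h))
        obtain ⟨c, hc⟩ := (bijective_iterateFrobenius k p L).2 (q i M / q j L)
        rw [iterateFrobenius_def] at hc
        let u : ℕ →₀ k := Finsupp.single (M - L) c
        obtain ⟨t1, t2⟩ := genF_apply_top p (g := u) (q := q j) (n := M - L) (M := L) (fun e he => by
          simp only [u, Finsupp.single_apply]; rw [if_neg (by omega)]) hL'
        rw [show L + (M - L) = M by omega] at t1 t2
        let e' := Function.update e j (e j + gen p (e i) u)
        let q' := Function.update q i (q i - genF p u (q j))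
        have hzero : ∀ a : prim k A, gen p (a + gen p (e i) u) (q j) = gen p a (q j) + gen p (gen p (e i) u) (q j) :=
          fun a => gen_add p a _ _
        have hq' : G e' q' = 0 := by
          rw [hGa] at hq ⊢
          rw [← Finset.add_sum_erase _ _ (Finset.mem_univ i), ← Finset.add_sum_erase _ _ (Finset.mem_erase.2 ⟨hij.symm, Finset.mem_univ j⟩)] at hq ⊢
          have hrest : ∀ l ∈ (Finset.univ.erase i).erase j, gen p (e' l) (q' l) = gen p (e l) (q l) := fun l hl => by
            simp only [Finset.mem_erase] at hl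
            simp [e', q', hl.1, hl.2.1]
          rw [Finset.sum_congr rfl hrest]
          simp only [e', q', Function.update_self, Function.update_of_ne hij, Function.update_of_ne hij.symm,
            hzero, map_sub, gen_genF]
          rw [← hq]
          abel
        have he' : Function.Surjective (G e') := by
          intro a
          obtain ⟨w, rfl⟩ := he a
          have hmem : ∀ l v, gen p (e l) v ∈ LinearMap.range (G e') := by
            intro l v
            rcases eq_or_ne l j with rfl | hl
            · refine ⟨Pi.single l v - Pi.single i (genF p u v), ?_⟩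
              rw [map_sub, hGs, hGs]
              simp [e', Function.update_of_ne hij, gen_add, gen_genF]
            · exact ⟨Pi.single l v, by simp [hGs, e', hl]⟩
          rw [hGa]
          exact Submodule.sum_mem _ fun l _ => hmem l _
        have hlt : μ (q i - genF p u (q j)) < μ (q i) := by
          rw [hMμ, Nat.lt_succ_iff]
          refine hμle _ _ fun d hd => ?_
          rw [Finsupp.sub_apply]
          rcases Nat.eq_or_lt_of_le hd with rfl | hd
          · rw [t1]
            simp [u, hc]
            field_simp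
            ring
          · rw [hM' d hd, t2 d hd, sub_zero]
        have hsum : ∑ l, μ (q' l) < n := by
          rw [← hn]
          refine Finset.sum_lt_sum (fun l _ => ?_) ⟨i, Finset.mem_univ i, by simpa [q'] using hlt⟩
          rcases eq_or_ne l i with rfl | hl
          · simpa [q'] using hlt.le
          · simp [q', hl]
        have := congrFun (ih _ hsum e' he' q' rfl hq') j
        simp [q', hij.symm] at this
        exact hqj' this
      · push Not at h2
        have hei : e i₁ = 0 := htf _ (q i₁) hi₁ (by
          rw [hGa, Finset.sum_eq_single i₁ (fun l _ hl => by rw [h2 l hl, map_zero])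
            (fun h => absurd (Finset.mem_univ _) h)] at hq
          exact hq)
        obtain ⟨m, rfl⟩ : ∃ m, r = m + 1 := ⟨r - 1, by have := i₁.pos; omega⟩
        refine hmin m (Nat.lt_succ_self m) ⟨fun l => e (i₁.succAbove l), fun a => ?_⟩
        obtain ⟨w, rfl⟩ := he a
        refine ⟨fun l => w (i₁.succAbove l), ?_⟩
        rw [hGa, hGa, Fin.sum_univ_succAbove _ i₁, hei]
        have : gen p (0 : prim k A) (w i₁) = 0 := by
          induction w i₁ using Finsupp.induction_linear with
          | zero => simp
          | add x y hx hy => simp [hx, hy]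
          | single d v => rw [gen_single, Function.iterate_fixed (fp_zero p) d, smul_zero]
        rw [this, zero_add]
  have hbij : Function.Bijective (G e₀) :=
    ⟨(injective_iff_map_eq_zero _).2 fun q hq => hinj _ e₀ he₀ q rfl hq, he₀⟩
  let E := LinearEquiv.ofBijective (G e₀) hbij
  have hE : ∀ a, ∑ i, gen p (e₀ i) (E.symm a i) = a := fun a => by
    rw [← hGa]; exact E.apply_symm_apply a
  refine ⟨r, ⟨e₀, fun i => LinearMap.proj i ∘ₗ E.symm.toLinearMap, fun i a => ?_, fun i j => ?_⟩, fun a => ?_⟩
  · have h : E.symm (fp p a) = fun l => sh p (E.symm a l) := by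
      apply E.injective
      rw [E.apply_symm_apply]
      show fp p a = G e₀ _
      rw [hGa]
      simp only [gen_sh]
      rw [← fp_sum, hE]
    exact congrFun h i
  · have h : E.symm (e₀ j) = Pi.single j (Finsupp.single 0 1) := by
      apply E.injective
      rw [E.apply_symm_apply]
      show e₀ j = G e₀ _
      rw [hGs, gen_single, one_smul]
      rfl
    show E.symm (e₀ j) i = _
    rw [h, Pi.single_apply]
  · rw [Split.proj_apply]
    exact sub_eq_zero.2 (hE a).symm

end Groth.Agent.PRed
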