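import Groth.Agent.PRed.Struct

/-!
# Homomorphisms to vector groups from primitive elements
-/

set_option autoImplicit false
set_option linter.unusedSectionVars false

universe u v w

open TensorProduct Coalgebra
open Groth.Agent.UnipZero (prim mem_prim counit_prim)

noncomputable section

namespace Groth.Agent.PRed

variable {k : Type u} [Field k] (p : ℕ) [Fact p.Prime] [CharP k p] {A : Type v} [CommRing A] [Bialgebra k A]
  {n : ℕ} (x : Fin n → prim k A)

include p in
theorem lift_mem_prim (a : Sy k n) (ha : a ∈ prim k (Sy k n)) :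
    SymmetricAlgebra.lift (lin fun i => (x i : A)) a ∈ prim k A := by
  obtain ⟨q, hq⟩ := Sy.prim_eq p ⟨a, ha⟩
  rw [show a = ((∑ i, gen p (X i) (q i) : prim k (Sy k n)) : Sy k n) from congrArg Subtype.val hq,
    Submodule.coe_sum, map_sum]
  refine Submodule.sum_mem _ fun i _ => ?_
  induction q i using Finsupp.induction_linear with
  | zero => simp
  | add y z hy hz => rw [map_add, Submodule.coe_add, map_add]; exact add_mem hy hz
  | single e c =>
    rw [gen_single, Submodule.coe_smul, coe_iterate_fp, coe_X, map_smul, map_pow, lift_X, ← coe_iterate_fp]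
    exact Submodule.smul_mem _ _ (Subtype.mem _)

/-- The homomorphism to a vector group given by primitive elements. -/
def gensHom : Sy k n →ₐc[k] A :=
  toBialgHom Sy.primGen (SymmetricAlgebra.lift (lin fun i => (x i : A))) (lift_mem_prim p x)

theorem gensHom_X (i : Fin n) : gensHom p x (Xe k i) = (x i : A) := lift_X (fun i => (x i : A)) i

/-- Generators give a surjection. -/
theorem gensHom_surjective (h : Algebra.adjoin k (Set.range fun i => (x i : A)) = ⊤) :
    Function.Surjective (gensHom p x) := fun a => by
  have h' : Algebra.adjoin k (Set.range fun i => (x i : A)) ≤ (gensHom p x : Sy k n →ₐ[k] A).range :=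
    Algebra.adjoin_le (by rintro _ ⟨i, rfl⟩; exact ⟨Xe k i, gensHom_X p x i⟩)
  exact h' (by rw [h]; exact Algebra.mem_top)

/-- Finitely many primitive elements generate the algebra. -/
theorem exists_surjective_gensHom [Algebra.FiniteType k A] (hA : PrimGen k A) :
    ∃ (m : ℕ) (y : Fin m → prim k A), Function.Surjective (gensHom p y) := by
  obtain ⟨S₀, hS₀⟩ := exists_finite_gen (p := p) hA
  refine ⟨S₀.card, fun i => (S₀.equivFin.symm i : prim k A), gensHom_surjective p _ ?_⟩
  refine eq_top_iff.2 (hA.ge.trans (Algebra.adjoin_le fun a ha => ?_))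
  have h := hS₀ (Submodule.mem_top (x := (⟨a, ha⟩ : prim k A)))
  suffices ∀ z : prim k A, z ∈ Submodule.span k (Set.range fun q : S₀ × ℕ => (fp p)^[q.2] (q.1 : prim k A)) →
      (z : A) ∈ Algebra.adjoin k (Set.range fun i => (((S₀.equivFin.symm i : prim k A)) : A)) from this _ h
  intro z hz
  induction hz using Submodule.span_induction with
  | mem y hy =>
    obtain ⟨⟨s, e⟩, rfl⟩ := hy
    rw [coe_iterate_fp]
    refine pow_mem (Algebra.subset_adjoin ?_) _
    exact ⟨S₀.equivFin s, by simp⟩
  | zero => simp
  | add y z _ _ hy hz => rw [Submodule.coe_add]; exact add_mem hy hz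
  | smul c y _ hy => rw [Submodule.coe_smul]; exact Subalgebra.smul_mem _ hy c

end Groth.Agent.PRed
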