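import Groth.Agent.UnipZero.Poly
import Mathlib.Data.Finsupp.Multiset
import Mathlib.Algebra.CharP.Lemmas

/-!
# Reduced monomials in primitive elements in characteristic `p`

Monomials with exponents `< p` in linearly independent primitive elements are linearly independent, and
the only primitive elements in their span are the linear ones. So if primitive elements generate,
the bialgebra is the restricted enveloping algebra of its primitive elements.
-/

set_option autoImplicit false
set_option linter.unusedSectionVars false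

universe u v w

open TensorProduct Coalgebra
open Groth.Agent.UnipZero (prim mem_prim counit_prim)

noncomputable section

namespace Groth.Agent.PRed

variable {k : Type u} [Field k] {A : Type v} [CommRing A] [Bialgebra k A]

/-- The monomial with exponents `m`. -/
def mono {ι : Type*} [Fintype ι] (x : ι → A) (m : ι → ℕ) : A := ∏ i, x i ^ m i

theorem prod_tmul {ι : Type*} (s : Finset ι) (f g : ι → A) :
    ∏ i ∈ s, f i ⊗ₜ[k] g i = (∏ i ∈ s, f i) ⊗ₜ[k] ∏ i ∈ s, g i := by
  classical
  induction s using Finset.induction_on with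
  | empty => simp [Algebra.TensorProduct.one_def]
  | insert i s hi ih => simp [Finset.prod_insert hi, ih]

theorem mono_zero {ι : Type*} [Fintype ι] (x : ι → A) : mono x 0 = 1 := by simp [mono]

theorem mono_single {ι : Type*} [Fintype ι] [DecidableEq ι] (x : ι → A) (i : ι) :
    mono x (Pi.single i 1) = x i := by
  rw [mono, Finset.prod_eq_single i (fun j _ hj => by simp [hj]) (fun h => absurd (Finset.mem_univ i) h)]
  simp

theorem comul_mono {ι : Type*} [Fintype ι] [DecidableEq ι] {x : ι → A} (hx : ∀ i, x i ∈ prim k A) (m : ι → ℕ) :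
    comul (R := k) (mono x m) = ∑ a ∈ Fintype.piFinset (fun i => Finset.range (m i + 1)),
      (∏ i, (m i).choose (a i)) • (mono x a ⊗ₜ[k] mono x (m - a)) := by
  rw [show comul (R := k) (mono x m) = Bialgebra.comulAlgHom k A (mono x m) from rfl, mono, map_prod]
  have h : ∀ i, Bialgebra.comulAlgHom k A (x i ^ m i) = ∑ a ∈ Finset.range (m i + 1),
      ((m i).choose a : A ⊗[k] A) * ((x i ^ a) ⊗ₜ[k] (x i ^ (m i - a))) := fun i => by
    rw [map_pow, show Bialgebra.comulAlgHom k A (x i) = comul (R := k) (x i) from rfl, mem_prim.1 (hx i), add_pow]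
    refine Finset.sum_congr rfl fun a _ => ?_
    simp [Algebra.TensorProduct.tmul_pow, Algebra.TensorProduct.tmul_mul_tmul, mul_comm]
  rw [Finset.prod_congr rfl fun i _ => h i, Finset.prod_univ_sum]
  refine Finset.sum_congr rfl fun a _ => ?_
  rw [Finset.prod_mul_distrib, prod_tmul, nsmul_eq_mul, Nat.cast_prod]
  rfl

variable (p : ℕ) [Fact p.Prime] [CharP k p]

section Finite

variable {ι : Type w} [Fintype ι] [DecidableEq ι] {x : ι → A}

/-- The total degree. -/
def deg (m : ι → Fin p) : ℕ := ∑ i, (m i : ℕ)

/-- The reduced monomials. -/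
def rmono (x : ι → A) (m : ι → Fin p) : A := mono x fun i => (m i : ℕ)

variable (k) in
/-- Functionals dual to the monomials of degree at most `N`. -/
def HasDual (x : ι → A) (N : ℕ) : Prop :=
  ∀ a : ι → Fin p, deg p a ≤ N → ∃ f : A →ₗ[k] k, ∀ b : ι → Fin p, deg p b ≤ N →
    f (rmono p x b) = if b = a then 1 else 0

theorem coeff_eq_zero (hx : ∀ i, x i ∈ prim k A) {N : ℕ} (hN : 1 ≤ N) (hd : HasDual k p x N)
    (c : (ι → Fin p) → k) (hc : ∀ m, N + 1 < deg p m → c m = 0)
    (h : ∀ f g : A →ₗ[k] k, f 1 = 0 → g 1 = 0 →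
      LinearMap.mul' k k (TensorProduct.map f g (comul (R := k) (∑ m, c m • rmono p x m))) = 0)
    {m : ι → Fin p} (hm : 2 ≤ deg p m) : c m = 0 := by
  classical
  haveI : NeZero p := ⟨(Fact.out : p.Prime).ne_zero⟩
  by_cases hmN : N + 1 < deg p m
  · exact hc m hmN
  obtain ⟨i, hi⟩ : ∃ i, (m i : ℕ) ≠ 0 := by
    by_contra hh
    push Not at hh
    simp [deg, hh] at hm
  let a₀ : ι → Fin p := Pi.single i ⟨1, (Fact.out : p.Prime).one_lt⟩
  have ha₀ : ∀ j, (a₀ j : ℕ) = (Pi.single i 1 : ι → ℕ) j := fun j => by
    rcases eq_or_ne j i with rfl | hne <;> simp [a₀, *]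
  have hda : deg p a₀ = 1 := by simp [deg, ha₀]
  let b₀ : ι → Fin p := fun j => ⟨(m j : ℕ) - a₀ j, lt_of_le_of_lt (Nat.sub_le _ _) (m j).isLt⟩
  have hsum : ∀ j, (a₀ j : ℕ) + b₀ j = m j := fun j => by
    rcases eq_or_ne j i with rfl | hne
    · simp [b₀, ha₀]; omega
    · simp [b₀, ha₀, hne]
  have hdb : deg p b₀ + 1 = deg p m := by
    rw [← hda, add_comm, deg, deg, deg, ← Finset.sum_add_distrib]
    exact Finset.sum_congr rfl fun j _ => hsum j
  obtain ⟨f, hf⟩ := hd a₀ (by omega)
  obtain ⟨g, hg⟩ := hd b₀ (by omega)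
  have hr0 : rmono p x (0 : ι → Fin p) = 1 := by simp [rmono, mono]
  have hd0 : deg p (0 : ι → Fin p) = 0 := by simp [deg]
  have ha0 : a₀ ≠ 0 := fun hh => by rw [hh, hd0] at hda; omega
  have hb0 : b₀ ≠ 0 := fun hh => by rw [hh, hd0] at hdb; omega
  have hf1 : f 1 = 0 := by rw [← hr0, hf 0 (by omega), if_neg ha0.symm]
  have hg1 : g 1 = 0 := by rw [← hr0, hg 0 (by omega), if_neg hb0.symm]
  have h' := h f g hf1 hg1
  simp only [map_sum, map_smul, smul_eq_mul] at h'
  rw [Finset.sum_eq_single m (fun q _ hq => ?_) (fun hh => absurd (Finset.mem_univ m) hh)] at h'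
  · refine (mul_eq_zero.1 h').resolve_right ?_
    rw [rmono, comul_mono hx, map_sum, map_sum, Finset.sum_eq_single (fun j => (a₀ j : ℕ)) (fun a ha hne => ?_)
      (fun hh => absurd (Fintype.mem_piFinset.2 fun j => Finset.mem_range.2 (by have := hsum j; omega)) hh)]
    · rw [show mono x (fun j => (a₀ j : ℕ)) = rmono p x a₀ from rfl,
        show mono x ((fun j => (m j : ℕ)) - fun j => (a₀ j : ℕ)) = rmono p x b₀ from rfl,
        map_nsmul, map_nsmul, TensorProduct.map_tmul, LinearMap.mul'_apply, hf a₀ (by omega), hg b₀ (by omega),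
        if_pos rfl, if_pos rfl, mul_one, nsmul_one,
        Finset.prod_eq_single i (fun j _ hj => by simp [ha₀, hj]) (fun hh => absurd (Finset.mem_univ i) hh)]
      simp only [show (a₀ i : ℕ) = 1 by simp [ha₀], Nat.choose_one_right]
      rw [CharP.cast_eq_zero_iff k p]
      intro hdvd
      have := Nat.le_of_dvd (Nat.pos_of_ne_zero hi) hdvd
      have := (m i).isLt
      omega
    · simp only [Fintype.mem_piFinset, Finset.mem_range] at ha
      let a' : ι → Fin p := fun j => ⟨a j, by have := ha j; have := (m j).isLt; omega⟩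
      rw [map_nsmul, map_nsmul, TensorProduct.map_tmul, LinearMap.mul'_apply]
      suffices f (rmono p x a') = 0 ∨ g (mono x ((fun j => (m j : ℕ)) - a)) = 0 by
        rcases this with h1 | h1
        · rw [show mono x a = rmono p x a' from rfl, h1, zero_mul, smul_zero]
        · rw [h1, mul_zero, smul_zero]
      by_cases hda' : deg p a' ≤ N
      · exact Or.inl ((hf a' hda').trans (if_neg fun hh => hne (funext fun j => congrArg Fin.val (congrFun hh j))))
      · right
        have heq : ∀ j, a j = m j := by
          have hle : ∀ j ∈ Finset.univ, (a' j : ℕ) ≤ m j := fun j _ => Nat.lt_succ_iff.1 (ha j)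
          have hd' : deg p a' = deg p m := le_antisymm (Finset.sum_le_sum hle) (by omega)
          exact fun j => (Finset.sum_eq_sum_iff_of_le hle).1 hd' j (Finset.mem_univ j)
        rw [show (fun j => (m j : ℕ)) - a = 0 from funext fun j => by simp [heq j], mono_zero, hg1]
  · by_cases hcq : c q = 0
    · rw [hcq, zero_mul]
    refine mul_eq_zero_of_right _ ?_
    rw [rmono, comul_mono hx, map_sum, map_sum]
    refine Finset.sum_eq_zero fun a ha => ?_
    simp only [Fintype.mem_piFinset, Finset.mem_range] at ha
    let a' : ι → Fin p := fun j => ⟨a j, by have := ha j; have := (q j).isLt; omega⟩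
    let c' : ι → Fin p := fun j => ⟨(q j : ℕ) - a j, lt_of_le_of_lt (Nat.sub_le _ _) (q j).isLt⟩
    have hs : deg p a' + deg p c' = deg p q := by
      rw [deg, deg, deg, ← Finset.sum_add_distrib]
      exact Finset.sum_congr rfl fun j _ => by simp [a', c']; have := ha j; omega
    have hqN : deg p q ≤ N + 1 := not_lt.1 fun hh => hcq (hc q hh)
    rw [map_nsmul, map_nsmul, TensorProduct.map_tmul, LinearMap.mul'_apply,
      show mono x a = rmono p x a' from rfl, show mono x ((fun j => (q j : ℕ)) - a) = rmono p x c' from rfl]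
    have hz : ∀ d : ι → Fin p, deg p d = 0 → d = 0 := fun d hd' => funext fun j => Fin.ext (by
      simpa using (Finset.sum_eq_zero_iff.1 hd') j (Finset.mem_univ j))
    suffices f (rmono p x a') * g (rmono p x c') = 0 by rw [this, smul_zero]
    by_cases h0 : deg p a' = 0
    · rw [hz a' h0, hr0, hf1, zero_mul]
    by_cases h1 : deg p c' = 0
    · rw [hz c' h1, hr0, hg1, mul_zero]
    rw [hf a' (by omega), hg c' (by omega)]
    by_cases e1 : a' = a₀
    · by_cases e2 : c' = b₀
      · refine absurd (funext fun j => Fin.ext ?_) hq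
        have := hsum j
        have := congrArg Fin.val (congrFun e1 j)
        have := congrArg Fin.val (congrFun e2 j)
        have := ha j
        simp only [a', c'] at *
        omega
      · rw [if_neg e2, mul_zero]
    · rw [if_neg e1, zero_mul]

/-- Degree at most one. -/
theorem eq_zero_of_deg_le_one (hx : ∀ i, x i ∈ prim k A) (hli : LinearIndependent k x) (c : (ι → Fin p) → k)
    (hc : ∀ m, 2 ≤ deg p m → c m = 0) (h : ∑ m, c m • rmono p x m = 0) : c = 0 := by
  classical
  haveI : NeZero p := ⟨(Fact.out : p.Prime).ne_zero⟩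
  let e : ι → ι → Fin p := fun i => Pi.single i ⟨1, (Fact.out : p.Prime).one_lt⟩
  have he : ∀ i j, (e i j : ℕ) = (Pi.single i 1 : ι → ℕ) j := fun i j => by
    rcases eq_or_ne j i with rfl | hne <;> simp [e, *]
  have hinj : Function.Injective e := fun i j hij => by
    by_contra hne
    have := congrArg (fun q : ι → Fin p => (q i : ℕ)) hij
    simp [he, hne] at this
  have hsub : ∀ m, c m ≠ 0 → m = 0 ∨ ∃ i, m = e i := by
    intro m hm
    have hd : deg p m ≤ 1 := by by_contra hh; exact hm (hc m (by omega))
    by_cases h0 : m = 0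
    · exact Or.inl h0
    obtain ⟨i, hi⟩ : ∃ i, (m i : ℕ) ≠ 0 := by
      by_contra hh
      push Not at hh
      exact h0 (funext fun j => Fin.ext (by simpa using hh j))
    have h1 := Finset.single_le_sum (f := fun j => (m j : ℕ)) (fun j _ => Nat.zero_le _) (Finset.mem_univ i)
    refine Or.inr ⟨i, funext fun j => Fin.ext ?_⟩
    rcases eq_or_ne j i with rfl | hne
    · rw [he, Pi.single_eq_same]; simp [deg] at hd h1 ⊢; omega
    · have h2 := Finset.add_sum_erase Finset.univ (fun j => (m j : ℕ)) (Finset.mem_univ i)
      have h3 := Finset.single_le_sum (f := fun j => (m j : ℕ)) (fun j _ => Nat.zero_le _)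
        (Finset.mem_erase.2 ⟨hne, Finset.mem_univ j⟩)
      rw [he, Pi.single_eq_of_ne hne]
      simp only [deg] at hd h2 h3 ⊢
      omega
  have h0ne : ∀ i, e i ≠ 0 := fun i hh => by
    have := congrArg (fun q : ι → Fin p => (q i : ℕ)) hh
    simp [he] at this
  have hsum : ∑ m, c m • rmono p x m = c 0 • (1 : A) + ∑ i, c (e i) • x i := by
    rw [← Finset.sum_subset (s₁ := insert 0 (Finset.univ.image e)) (Finset.subset_univ _) (fun m _ hm => by
      by_cases hm0 : c m = 0
      · rw [hm0, zero_smul]
      · rcases hsub m hm0 with rfl | ⟨i, rfl⟩ <;> simp at hm),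
      Finset.sum_insert (fun hh => by
        obtain ⟨i, -, hi⟩ := Finset.mem_image.1 hh
        exact h0ne i hi),
      Finset.sum_image fun i _ j _ hij => hinj hij]
    refine congrArg₂ (· + ·) (by simp [rmono, mono]) (Finset.sum_congr rfl fun i _ => ?_)
    rw [rmono, funext (he i), mono_single]
  rw [hsum] at h
  have hc0 : c 0 = 0 := by
    have := congrArg (counit (R := k)) h
    simpa [map_sum, counit_prim (hx _)] using this
  rw [hc0, zero_smul, zero_add] at h
  have hce := Fintype.linearIndependent_iff.1 hli _ h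
  funext m
  by_contra hm
  rcases hsub m hm with rfl | ⟨i, rfl⟩
  exacts [hm hc0, hm (hce i)]

theorem hasDual (hx : ∀ i, x i ∈ prim k A) (hli : LinearIndependent k x) : ∀ N, HasDual k p x N := by
  classical
  have ind : ∀ N, LinearIndependent k (fun m : {m : ι → Fin p // deg p m ≤ N} => rmono p x m.1) →
      HasDual k p x N := by
    intro N li a ha
    obtain ⟨f, hf⟩ := LinearMap.exists_extend
      ((Finsupp.lapply ⟨a, ha⟩ : ({m : ι → Fin p // deg p m ≤ N} →₀ k) →ₗ[k] k) ∘ₗ li.repr)
    refine ⟨f, fun b hb => ?_⟩
    have e := LinearMap.congr_fun hf ⟨rmono p x b, Submodule.subset_span ⟨⟨b, hb⟩, rfl⟩⟩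
    simp only [LinearMap.comp_apply, Submodule.subtype_apply, Finsupp.lapply_apply] at e
    rw [e, li.repr_eq_single ⟨b, hb⟩ _ rfl]
    simp [Finsupp.single_apply, Subtype.ext_iff]
  have key : ∀ N (c : (ι → Fin p) → k), (∀ m, N < deg p m → c m = 0) → ∑ m, c m • rmono p x m = 0 → c = 0 := by
    intro N
    induction N with
    | zero => exact fun c hc h => eq_zero_of_deg_le_one p hx hli c (fun m hm => hc m (by omega)) h
    | succ N ih =>
      intro c hc h
      rcases Nat.eq_zero_or_pos N with rfl | hN
      · exact eq_zero_of_deg_le_one p hx hli c (fun m hm => hc m (by omega)) h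
      have hd : HasDual k p x N := ind N (by
        rw [Fintype.linearIndependent_iff]
        intro g hg m
        let c' : (ι → Fin p) → k := fun q => if hq : deg p q ≤ N then g ⟨q, hq⟩ else 0
        have := ih c' (fun q hq => dif_neg (by omega)) (by
          rw [← Finset.sum_subset (Finset.subset_univ (Finset.univ.filter fun q => deg p q ≤ N)) (fun q _ hq => by
            simp at hq; simp [c', not_le.2 hq]), Finset.sum_subtype (Finset.univ.filter fun q => deg p q ≤ N)
            (p := fun q => deg p q ≤ N) (by simp)]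
          exact (Finset.sum_congr rfl fun q _ => by simp [c', q.2]).trans hg)
        have := congrFun this m.1
        simpa [c', m.2] using this)
      exact eq_zero_of_deg_le_one p hx hli c
        (fun m hm => coeff_eq_zero p hx hN hd c hc (fun f g _ _ => by rw [h, map_zero, map_zero, map_zero]) hm) h
  intro N
  refine ind N (Fintype.linearIndependent_iff.2 fun g hg m => ?_)
  let c' : (ι → Fin p) → k := fun q => if hq : deg p q ≤ N then g ⟨q, hq⟩ else 0
  have := key N c' (fun q hq => dif_neg (by omega)) (by
    rw [← Finset.sum_subset (Finset.subset_univ (Finset.univ.filter fun q => deg p q ≤ N)) (fun q _ hq => by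
      simp at hq; simp [c', not_le.2 hq]), Finset.sum_subtype (Finset.univ.filter fun q => deg p q ≤ N)
      (p := fun q => deg p q ≤ N) (by simp)]
    exact (Finset.sum_congr rfl fun q _ => by simp [c', q.2]).trans hg)
  have := congrFun this m.1
  simpa [c', m.2] using this

theorem exists_dual (hx : ∀ i, x i ∈ prim k A) (hli : LinearIndependent k x) (a : ι → Fin p) :
    ∃ f : A →ₗ[k] k, ∀ b : ι → Fin p, f (rmono p x b) = if b = a then 1 else 0 := by
  have hle : ∀ b : ι → Fin p, deg p b ≤ Fintype.card ι * p := fun b =>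
    (Finset.sum_le_sum fun i _ => le_of_lt (b i).isLt).trans (by simp)
  obtain ⟨f, hf⟩ := hasDual p hx hli (Fintype.card ι * p) a (hle a)
  exact ⟨f, fun b => hf b (hle b)⟩

theorem linearIndependent_rmono (hx : ∀ i, x i ∈ prim k A) (hli : LinearIndependent k x) :
    LinearIndependent k (rmono (A := A) p x) := by
  classical
  rw [Fintype.linearIndependent_iff]
  intro g hg a
  obtain ⟨f, hf⟩ := exists_dual p hx hli a
  simpa [map_sum, hf] using congrArg f hg

/-- The only primitive elements among the combinations of reduced monomials are the linear ones. -/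
theorem mem_span_of_prim (hx : ∀ i, x i ∈ prim k A) (hli : LinearIndependent k x) {a : A}
    (ha : a ∈ prim k A) (hs : a ∈ Submodule.span k (Set.range (rmono (A := A) p x))) :
    a ∈ Submodule.span k (Set.range x) := by
  classical
  haveI : NeZero p := ⟨(Fact.out : p.Prime).ne_zero⟩
  obtain ⟨c, rfl⟩ := (Submodule.mem_span_range_iff_exists_fun k).1 hs
  have hle : ∀ b : ι → Fin p, deg p b ≤ Fintype.card ι * p + 1 := fun b =>
    ((Finset.sum_le_sum fun i _ => le_of_lt (b i).isLt).trans (by simp)).trans (Nat.le_succ _)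
  have h2 : ∀ m, 2 ≤ deg p m → c m = 0 := fun m hm =>
    coeff_eq_zero p hx (Nat.le_add_left 1 (Fintype.card ι * p)) (hasDual p hx hli _) c
      (fun q hq => absurd (hle q) (by omega))
      (fun f g hf hg => by
        rw [mem_prim.1 ha, map_add, TensorProduct.map_tmul, TensorProduct.map_tmul, hf, hg]
        simp) hm
  have h0 : c 0 = 0 := by
    have h := counit_prim ha
    rw [map_sum, Finset.sum_eq_single (0 : ι → Fin p) (fun m _ hm => ?_) (fun h => absurd (Finset.mem_univ _) h)] at h
    · simpa [rmono, mono] using h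
    · obtain ⟨i, hi⟩ : ∃ i, (m i : ℕ) ≠ 0 := by
        by_contra hh
        push Not at hh
        exact hm (funext fun j => Fin.ext (by simpa using hh j))
      simp only [map_smul, rmono, mono, ← Bialgebra.counitAlgHom_apply, map_prod, map_pow]
      rw [Finset.prod_eq_zero (Finset.mem_univ i), smul_zero]
      rw [Bialgebra.counitAlgHom_apply, counit_prim (hx i), zero_pow hi]
  refine Submodule.sum_mem _ fun m _ => ?_
  by_cases hm : c m = 0
  · rw [hm, zero_smul]; exact zero_mem _
  have hd : deg p m = 1 := by
    have : deg p m < 2 := by by_contra hh; exact hm (h2 m (by omega))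
    have : deg p m ≠ 0 := fun hh => hm (by
      rw [show m = 0 from funext fun j => Fin.ext (by simpa using (Finset.sum_eq_zero_iff.1 hh) j (Finset.mem_univ j))]
      exact h0)
    omega
  obtain ⟨i, hi⟩ : ∃ i, (m i : ℕ) ≠ 0 := by
    by_contra hh
    push Not at hh
    simp [deg, hh] at hd
  have h3 := Finset.add_sum_erase Finset.univ (fun j => (m j : ℕ)) (Finset.mem_univ i)
  simp only [deg] at hd
  refine Submodule.smul_mem _ _ (Submodule.subset_span ⟨i, ?_⟩)
  rw [rmono, show (fun j => (m j : ℕ)) = Pi.single i 1 from funext fun j => ?_, mono_single]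
  rcases eq_or_ne j i with rfl | hne
  · rw [Pi.single_eq_same]; omega
  · have h4 := Finset.single_le_sum (f := fun j => (m j : ℕ)) (fun j _ => Nat.zero_le _)
      (Finset.mem_erase.2 ⟨hne, Finset.mem_univ j⟩)
    rw [Pi.single_eq_of_ne hne]
    omega

end Finite

section Generation

/-- A family stable under the `p`-th power, in the sense of spans. -/
def IsPStable (M : Submodule k A) : Prop := ∀ a ∈ M, a ^ p ∈ M

theorem prim_stable : IsPStable p (prim k A) := by
  intro a ha
  haveI : Nontrivial A :=
    (Bialgebra.counitAlgHom k A).toRingHom.domain_nontrivial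
  haveI : CharP (A ⊗[k] A) p := by
    haveI : Nontrivial (A ⊗[k] A) := (Bialgebra.counitAlgHom k (A ⊗[k] A)).toRingHom.domain_nontrivial
    exact charP_of_injective_algebraMap (algebraMap k (A ⊗[k] A)).injective p
  rw [mem_prim] at ha ⊢
  rw [show comul (R := k) (a ^ p) = (comul (R := k) a) ^ p from map_pow (Bialgebra.comulAlgHom k A) a p, ha,
    add_pow_char, Algebra.TensorProduct.tmul_pow, Algebra.TensorProduct.tmul_pow, one_pow]

variable {M : Submodule k A} {J : Type w} (b : Module.Basis J k M)

/-- Products of basis elements. -/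
def mprod (s : Multiset J) : A := (s.map fun j => (b j : A)).prod

/-- Reduced exponents. -/
abbrev RExp (J : Type w) : Type w := {m : J →₀ ℕ // ∀ j, m j < p}

/-- The reduced monomials in a basis. -/
def bmono (m : RExp p J) : A := mprod b (Finsupp.toMultiset m.1)

theorem mprod_cons (j : J) (s : Multiset J) : mprod b (j ::ₘ s) = (b j : A) * mprod b s := by simp [mprod]

theorem mprod_add (s t : Multiset J) : mprod b (s + t) = mprod b s * mprod b t := by simp [mprod]

theorem mprod_cases (hM : IsPStable p M) (s : Multiset J) :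
    (∃ m : RExp p J, Finsupp.toMultiset m.1 = s) ∨
      ∃ (j : J) (t : Multiset J), s = Multiset.replicate p j + t ∧ t.card + 1 < s.card ∧
        mprod b s = (b.repr ⟨(b j : A) ^ p, hM _ (b j).2⟩).sum fun l c => c • mprod b (l ::ₘ t) := by
  classical
  by_cases h : ∀ j, s.count j < p
  · exact Or.inl ⟨⟨Multiset.toFinsupp s, fun j => by simpa using h j⟩, Multiset.toFinsupp_toMultiset s⟩
  push Not at h
  obtain ⟨j, hj⟩ := h
  obtain ⟨t, ht⟩ := Multiset.le_iff_exists_add.1 (Multiset.le_count_iff_replicate_le.1 hj)
  refine Or.inr ⟨j, t, ht, ?_, ?_⟩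
  · have := (Fact.out : p.Prime).two_le
    simp [ht]; omega
  · have hrep : mprod b (Multiset.replicate p j) = (b j : A) ^ p := by simp [mprod]
    rw [ht, mprod_add, hrep]
    have e := congrArg (fun z : M => (z : A)) (b.linearCombination_repr ⟨(b j : A) ^ p, hM _ (b j).2⟩)
    simp only [Finsupp.linearCombination_apply, Finsupp.sum, Submodule.coe_sum, Submodule.coe_smul] at e
    refine (congrArg (· * mprod b t) e.symm).trans ?_
    show _ * mprod b t = _
    rw [Finset.sum_mul]
    exact Finset.sum_congr rfl fun l _ => by simp only [mprod_cons, smul_mul_assoc]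

theorem mprod_mem_span (hM : IsPStable p M) : ∀ s : Multiset J,
    mprod b s ∈ Submodule.span k (Set.range (bmono p b)) := by
  intro s
  induction hn : s.card using Nat.strong_induction_on generalizing s with
  | _ n ih =>
    subst hn
    rcases mprod_cases p b hM s with ⟨m, rfl⟩ | ⟨j, t, -, hlt, e⟩
    · exact Submodule.subset_span ⟨m, rfl⟩
    · rw [e]
      exact Submodule.sum_mem _ fun l _ => Submodule.smul_mem _ _ (ih _ (by simpa using hlt) _ rfl)

theorem span_bmono_eq (hM : IsPStable p M) :
    Submodule.span k (Set.range (bmono p b)) = Subalgebra.toSubmodule (Algebra.adjoin k (M : Set A)) := by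
  classical
  haveI : NeZero p := ⟨(Fact.out : p.Prime).ne_zero⟩
  refine le_antisymm (Submodule.span_le.2 ?_) ?_
  · rintro _ ⟨m, rfl⟩
    rw [SetLike.mem_coe, Subalgebra.mem_toSubmodule, bmono, mprod]
    refine Subalgebra.multiset_prod_mem _ fun a ha => ?_
    obtain ⟨j, -, rfl⟩ := Multiset.mem_map.1 ha
    exact Algebra.subset_adjoin (b j).2
  · rw [Algebra.adjoin_eq_span]
    refine Submodule.span_le.2 fun a ha => ?_
    suffices ∀ z ∈ Submonoid.closure (M : Set A), z ∈ Submodule.span k (Set.range fun s => mprod b s) by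
      have hle : Submodule.span k (Set.range fun s => mprod b s) ≤ Submodule.span k (Set.range (bmono p b)) :=
        Submodule.span_le.2 (by rintro _ ⟨s, rfl⟩; exact mprod_mem_span p b hM s)
      exact hle (this a ha)
    intro z hz
    induction hz using Submonoid.closure_induction with
    | one => exact Submodule.subset_span ⟨0, by simp [mprod]⟩
    | mem y hy =>
      have e := congrArg (fun w : M => (w : A)) (b.linearCombination_repr ⟨y, hy⟩)
      simp only [Finsupp.linearCombination_apply, Finsupp.sum, Submodule.coe_sum, Submodule.coe_smul] at e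
      rw [← e]
      exact Submodule.sum_mem _ fun l _ => Submodule.smul_mem _ _ (Submodule.subset_span ⟨{l}, by simp [mprod]⟩)
    | mul y y' _ _ h h' =>
      have : ∀ r r' : A, r ∈ Set.range (fun s => mprod b s) → r' ∈ Set.range (fun s => mprod b s) →
          r * r' ∈ Set.range (fun s => mprod b s) := by
        rintro _ _ ⟨s, rfl⟩ ⟨s', rfl⟩; exact ⟨s + s', mprod_add b s s'⟩
      have h2 := Submodule.mul_mem_mul h h'
      rw [Submodule.span_mul_span] at h2
      refine Submodule.span_le.2 ?_ h2
      rintro _ ⟨r, hr, r', hr', rfl⟩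
      exact Submodule.subset_span (this r r' hr hr')

/-- Finitely many monomials involve finitely many basis elements. -/
theorem exists_rmono (s : Finset J) (m : RExp p J) (hm : m.1.support ⊆ s) :
    bmono p b m = rmono (A := A) p (fun i : s => (b i : A)) (fun i => ⟨m.1 i, m.2 i⟩) := by
  classical
  rw [bmono, mprod, Finsupp.toMultiset_map, Finsupp.prod_toMultiset, Finsupp.prod_mapDomain_index (by simp)
    (fun a m n => pow_add a m n), Finsupp.prod_of_support_subset _ hm _ (by simp)]
  exact (Finset.prod_coe_sort s fun j => (b j : A) ^ m.1 j).symm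

theorem linearIndependent_bmono (hMp : M ≤ prim k A) : LinearIndependent k (bmono p b) := by
  classical
  rw [linearIndependent_iff']
  intro t g hg m hm
  let s : Finset J := t.biUnion fun q => q.1.support
  let x : s → A := fun i => (b i : A)
  have hxli : LinearIndependent k x :=
    (b.linearIndependent.map' M.subtype M.ker_subtype).comp _ Subtype.val_injective
  let r : RExp p J → (s → Fin p) := fun q i => ⟨q.1 i, q.2 i⟩
  have hr : Set.InjOn r t := fun q hq q' hq' h => Subtype.ext (Finsupp.ext fun j => by
    by_cases hj : j ∈ s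
    · exact congrArg Fin.val (congrFun h ⟨j, hj⟩)
    · have h1 : ∀ q ∈ t, q.1 j = 0 := fun q hq => Finsupp.notMem_support_iff.1 fun hh =>
        hj (Finset.mem_biUnion.2 ⟨q, hq, hh⟩)
      rw [h1 q hq, h1 q' hq'])
  obtain ⟨f, hf⟩ := exists_dual p (x := x) (fun i : s => hMp (b i.1).2) hxli (r m)
  have h := congrArg f hg
  rw [map_sum, map_zero, Finset.sum_eq_single m (fun q hq hne => ?_) (fun hh => absurd hm hh)] at h
  · rw [map_smul, exists_rmono p b s m (fun j hj => Finset.mem_biUnion.2 ⟨m, hm, hj⟩), hf, if_pos rfl] at h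
    simpa using h
  · rw [map_smul, exists_rmono p b s q (fun j hj => Finset.mem_biUnion.2 ⟨q, hq, hj⟩), hf,
      if_neg (fun hh => hne (hr hq hm hh)), smul_zero]

variable (k A) in
/-- Primitive elements generate. -/
def PrimGen : Prop := Algebra.adjoin k (prim k A : Set A) = ⊤

theorem prim_le_of_adjoin {M : Submodule k A} (hMp : M ≤ prim k A) (hM : IsPStable p M) :
    prim k A ⊓ Subalgebra.toSubmodule (Algebra.adjoin k (M : Set A)) ≤ M := by
  classical
  rintro a ⟨ha, haM⟩
  let b := Module.Free.chooseBasis k M
  rw [SetLike.mem_coe, ← span_bmono_eq p b hM] at haM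
  obtain ⟨c, rfl⟩ := (Finsupp.mem_span_range_iff_exists_finsupp (R := k)).1 haM
  let s := c.support.biUnion fun q => q.1.support
  let x : s → A := fun i => (b i : A)
  have hs : (c.sum fun i r => r • bmono p b i) ∈ Submodule.span k (Set.range (rmono (A := A) p x)) :=
    Submodule.sum_mem _ fun q hq => Submodule.smul_mem _ _ (Submodule.subset_span
      ⟨_, (exists_rmono p b s q (fun j hj => Finset.mem_biUnion.2 ⟨q, hq, hj⟩)).symm⟩)
  refine Submodule.span_le.2 ?_ (mem_span_of_prim p (x := x) (fun i : s => hMp (b i.1).2)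
    ((b.linearIndependent.map' M.subtype M.ker_subtype).comp _ Subtype.val_injective) ha hs)
  rintro _ ⟨i, rfl⟩
  exact (b i).2

theorem eq_prim_of_adjoin {M : Submodule k A} (hMp : M ≤ prim k A) (hM : IsPStable p M)
    (hgen : Algebra.adjoin k (M : Set A) = ⊤) : M = prim k A :=
  le_antisymm hMp fun a ha => prim_le_of_adjoin p hMp hM ⟨ha, by rw [hgen]; trivial⟩

/-- Compatible linear maps on the primitive elements extend to algebra homomorphisms. -/
theorem exists_lift (hA : PrimGen k A) {B : Type*} [CommRing B] [Algebra k B] (f : prim k A →ₗ[k] B)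
    (hf : ∀ a : prim k A, f ⟨(a : A) ^ p, prim_stable (k := k) (A := A) p a a.2⟩ = f a ^ p) :
    ∃ F : A →ₐ[k] B, ∀ a : prim k A, F a = f a := by
  classical
  haveI : NeZero p := ⟨(Fact.out : p.Prime).ne_zero⟩
  let b := Module.Free.chooseBasis k (prim k A)
  have hspan : ⊤ ≤ Submodule.span k (Set.range (bmono p b)) := by
    rw [span_bmono_eq p b (prim_stable p), hA, Algebra.top_toSubmodule]
  let bA : Module.Basis _ k A := Module.Basis.mk (linearIndependent_bmono p b le_rfl) hspan
  let F : A →ₗ[k] B := bA.constr k fun m => ((Finsupp.toMultiset m.1).map fun j => f (b j)).prod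
  have hF : ∀ s : Multiset _, F (mprod b s) = (s.map fun j => f (b j)).prod := by
    intro s
    induction hn : s.card using Nat.strong_induction_on generalizing s with
    | _ n ih =>
      subst hn
      rcases mprod_cases p b (prim_stable p) s with ⟨m, rfl⟩ | ⟨j, t, ht, hlt, e⟩
      · rw [show mprod b (Finsupp.toMultiset m.1) = bA m from
          (Module.Basis.mk_apply (linearIndependent_bmono p b le_rfl) hspan m).symm]
        exact bA.constr_basis k _ m
      · set z : prim k A := ⟨(b j : A) ^ p, prim_stable (k := k) (A := A) p (b j : A) (b j).2⟩ with hz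
        have hfz : f z = (b.repr z).sum fun l c => c • f (b l) := by
          conv_lhs => rw [← b.linearCombination_repr z, Finsupp.linearCombination_apply, map_finsuppSum]
          exact Finsupp.sum_congr fun l _ => map_smul f _ _
        have hjp : (Multiset.map (fun j => f (b j)) (Multiset.replicate p j)).prod = f z := by
          rw [Multiset.map_replicate, Multiset.prod_replicate, hz, hf]
        rw [e, map_finsuppSum]
        conv_rhs => rw [ht, Multiset.map_add, Multiset.prod_add, hjp, hfz, Finsupp.sum_mul]
        refine Finsupp.sum_congr fun l _ => ?_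
        rw [map_smul, ih _ (by simpa using hlt) _ rfl, smul_mul_assoc, Multiset.map_cons, Multiset.prod_cons]
  have h1 : F 1 = 1 := by simpa [mprod] using hF 0
  have hmul : ∀ y z, F (y * z) = F y * F z := by
    suffices (LinearMap.mul k A).compr₂ F = (LinearMap.mul k B).compl₁₂ F F by
      exact fun y z => LinearMap.congr_fun (LinearMap.congr_fun this y) z
    refine bA.ext fun m => bA.ext fun q => ?_
    rw [Module.Basis.mk_apply, Module.Basis.mk_apply]
    show F (bmono p b m * bmono p b q) = F (bmono p b m) * F (bmono p b q)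
    rw [bmono, bmono, ← mprod_add, hF, hF, hF, Multiset.map_add, Multiset.prod_add]
  refine ⟨AlgHom.ofLinearMap F h1 hmul, fun a => ?_⟩
  show F a = f a
  have e : F ∘ₗ (prim k A).subtype = f := b.ext fun j => by
    have := hF {j}
    simpa [mprod] using this
  exact LinearMap.congr_fun e a

theorem algHom_ext (hA : PrimGen k A) {B : Type*} [Semiring B] [Algebra k B] {F G : A →ₐ[k] B}
    (h : ∀ a ∈ prim k A, F a = G a) : F = G :=
  AlgHom.ext_of_adjoin_eq_top hA fun a ha => h a ha

end Generation

end Groth.Agent.PRed
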