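import Groth.Agent.PRed.Scheme
import Mathlib.CategoryTheory.Monoidal.Cartesian.CommMon_

/-!
# Morphisms between spectra of Hopf algebras, and maps from the affine line after an extension
-/

set_option autoImplicit false
set_option linter.unusedSectionVars false

universe u

open CategoryTheory CategoryTheory.Limits MonoidalCategory CartesianMonoidalCategory MonObj GrpObj AlgebraicGeometry
open WithConv TensorProduct

noncomputable section

namespace Groth.Agent.PRed

variable {k : Type u} [CommRing k]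

variable (k) in
/-- The spectrum over `k`. -/
abbrev SA (A : Type u) [CommRing A] [Algebra k A] : Over (Spec (CommRingCat.of k)) :=
  (Spec (CommRingCat.of A)).asOver (Spec (CommRingCat.of k))

variable {A B C : Type u} [CommRing A] [Algebra k A] [CommRing B] [Algebra k B] [CommRing C] [Algebra k C]

/-- The morphism of an algebra map. -/
def mapS (f : A →ₐ[k] B) : SA k B ⟶ SA k A := (Spec.map (CommRingCat.ofHom f.toRingHom)).asOver _

theorem mapS_left (f : A →ₐ[k] B) : (mapS f).left = Spec.map (CommRingCat.ofHom f.toRingHom) := rfl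

theorem mapS_comp (f : A →ₐ[k] B) (g : B →ₐ[k] C) : mapS g ≫ mapS f = mapS (g.comp f) := by
  ext1
  show Spec.map _ ≫ Spec.map _ = Spec.map _
  rw [← Spec.map_comp]
  rfl

theorem exists_mapS (x : SA k B ⟶ SA k A) : ∃ f : A →ₐ[k] B, mapS f = x := by
  have hw : CommRingCat.ofHom (algebraMap k A) ≫ Spec.preimage x.left = CommRingCat.ofHom (algebraMap k B) := by
    apply Spec.map_injective
    rw [Spec.map_comp, Spec.map_preimage]
    exact Over.w x
  refine ⟨{ (Spec.preimage x.left).hom with commutes' := fun r => congr($hw r) }, ?_⟩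
  ext1
  exact Spec.map_preimage x.left

theorem mapS_injective {f g : A →ₐ[k] B} (h : mapS f = mapS g) : f = g :=
  AlgHom.coe_ringHom_injective
    (congrArg CommRingCat.Hom.hom (Spec.map_injective (congrArg CommaMorphism.left h)))

theorem mapS_toBialg {A B : Type u} [CommRing A] [Bialgebra k A] [CommRing B] [Bialgebra k B] (f : A →ₐc[k] B) :
    SekSuwa.specHom f = mapS (f : A →ₐ[k] B) := by ext1; rfl

theorem mapS_mul {A B : Type u} [CommRing A] [HopfAlgebra k A] [CommRing B] [Algebra k B] (f g : A →ₐ[k] B) :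
    mapS f * mapS g = mapS (toConv f * toConv g).ofConv :=
  (map_mul (Spec.mapMulEquiv (R := k) (S := A) (T := B)) (toConv f) (toConv g)).symm

theorem isIso_mapS (f : A →ₐ[k] B) (hf : Function.Bijective f) : IsIso (mapS f) := by
  refine ⟨mapS (AlgEquiv.ofBijective f hf).symm.toAlgHom, ?_, ?_⟩
  · rw [mapS_comp]
    refine Over.OverMorphism.ext ?_
    show Spec.map _ = 𝟙 _
    rw [← Spec.map_id]
    congr 1
    ext x
    exact (AlgEquiv.ofBijective f hf).apply_symm_apply x
  · rw [mapS_comp]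
    refine Over.OverMorphism.ext ?_
    show Spec.map _ = 𝟙 _
    rw [← Spec.map_id]
    congr 1
    ext x
    exact (AlgEquiv.ofBijective f hf).symm_apply_apply x

variable (A B) in
/-- The spectrum of a tensor product as a product. -/
def prodS : SA k (A ⊗[k] B) ⟶ SA k A ⊗ SA k B :=
  lift (mapS Algebra.TensorProduct.includeLeft) (mapS Algebra.TensorProduct.includeRight)

instance isIso_prodS : IsIso (prodS (k := k) A B) := by
  have h : (prodS (k := k) A B).left = (pullbackSpecIso k A B).inv := by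
    apply pullback.hom_ext
    · exact (congrArg CommaMorphism.left (lift_fst (mapS (Algebra.TensorProduct.includeLeft : A →ₐ[k] A ⊗[k] B))
        (mapS Algebra.TensorProduct.includeRight))).trans (pullbackSpecIso_inv_fst k A B).symm
    · exact (congrArg CommaMorphism.left (lift_snd (mapS (Algebra.TensorProduct.includeLeft : A →ₐ[k] A ⊗[k] B))
        (mapS Algebra.TensorProduct.includeRight))).trans (pullbackSpecIso_inv_snd k A B).symm
  haveI : IsIso ((Over.forget _).map (prodS (k := k) A B)) := by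
    show IsIso (prodS (k := k) A B).left
    rw [h]
    infer_instance
  exact isIso_of_reflects_iso _ (Over.forget _)

/-- The comultiplied product of two homomorphisms. -/
theorem prodS_comp {H : Type u} [CommRing H] [HopfAlgebra k H] (f : H →ₐ[k] A) (g : H →ₐ[k] B) :
    prodS A B ≫ (mapS f ⊗ₘ mapS g) ≫ μ[SA k H] =
      mapS ((Algebra.TensorProduct.map f g).comp (Bialgebra.comulAlgHom k H)) := by
  rw [prodS, ← Category.assoc, lift_map, ← Hom.mul_def, mapS_comp, mapS_comp, mapS_mul]
  congr 1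
  refine AlgHom.ext fun x => ?_
  rw [AlgHom.convMul_apply]
  show _ = Algebra.TensorProduct.map f g (Coalgebra.comul (R := k) x)
  generalize Coalgebra.comul (R := k) x = t
  induction t using TensorProduct.induction_on with
  | zero => simp
  | tmul a b => simp
  | add a b ha hb => simp only [map_add, ha, hb]

/-- Multiplication into a group is an isomorphism when the comorphism is bijective. -/
theorem isIso_mul {H : Type u} [CommRing H] [HopfAlgebra k H] {U : Over (Spec (CommRingCat.of k))} [GrpObj U]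
    (e : SA k H ≅ U) [IsMonHom e.hom] (f : H →ₐ[k] A) (g : H →ₐ[k] B)
    (h : Function.Bijective ((Algebra.TensorProduct.map f g).comp (Bialgebra.comulAlgHom k H))) :
    IsIso ((((mapS f ≫ e.hom) ⊗ₘ (mapS g ≫ e.hom))) ≫ μ[U]) := by
  haveI := isIso_mapS _ h
  have e1 : ((mapS f ≫ e.hom) ⊗ₘ (mapS g ≫ e.hom)) ≫ μ[U] = (mapS f ⊗ₘ mapS g) ≫ μ[SA k H] ≫ e.hom := by
    rw [IsMonHom.mul_hom (f := e.hom), tensorHom_comp_tensorHom_assoc]
  have e2 : ((mapS f ⊗ₘ mapS g) ≫ μ[SA k H] ≫ e.hom) =
      inv (prodS (k := k) A B) ≫ mapS ((Algebra.TensorProduct.map f g).comp (Bialgebra.comulAlgHom k H)) ≫ e.hom := by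
    rw [← prodS_comp]
    simp
  rw [e1, e2]
  infer_instance

section Line

variable (K : Type u) [Field K]

attribute [-instance] ULift.smulLeft ULift.module

/-- The affine line over an extension. -/
theorem nonempty_Ga_iso : Nonempty (Red.Ga (Spec (CommRingCat.of K)) ≅ SA K (Polynomial K)) := by
  letI : Algebra (ULift.{u} ℤ) K := ((Int.castRingHom K).comp (ULift.ringEquiv.toRingHom)).toAlgebra
  obtain ⟨j⟩ := MTBridge.nonempty_bc_specGrp (ULift.{u} ℤ) K (SymmetricAlgebra (ULift.{u} ℤ) (ULift.{u} ℤ))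
  rw [specULiftZIsTerminal.hom_ext (Spec.map (CommRingCat.ofHom (algebraMap (ULift.{u} ℤ) K)))
    (IsTerminal.from specULiftZIsTerminal _)] at j
  let g₀ : SymmetricAlgebra (ULift.{u} ℤ) (ULift.{u} ℤ) →ₐ[ULift.{u} ℤ] Polynomial K :=
    SymmetricAlgebra.lift (LinearMap.toSpanSingleton (ULift.{u} ℤ) _ Polynomial.X)
  let G : K ⊗[ULift.{u} ℤ] SymmetricAlgebra (ULift.{u} ℤ) (ULift.{u} ℤ) →ₐ[K] Polynomial K :=
    Algebra.TensorProduct.lift (Algebra.ofId K (Polynomial K)) g₀ fun _ _ => Commute.all _ _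
  let F : Polynomial K →ₐ[K] K ⊗[ULift.{u} ℤ] SymmetricAlgebra (ULift.{u} ℤ) (ULift.{u} ℤ) :=
    Polynomial.aeval ((1 : K) ⊗ₜ SymmetricAlgebra.ι _ _ (1 : ULift.{u} ℤ))
  have hX : G (F Polynomial.X) = Polynomial.X := by
    simp [F, G, g₀, Algebra.smul_def]
  have h1 : G.comp F = AlgHom.id K _ := Polynomial.algHom_ext hX
  have h2 : F.comp G = AlgHom.id K _ := by
    refine Algebra.TensorProduct.ext (by ext) (SymmetricAlgebra.algHom_ext (LinearMap.ext_ring ?_))
    show F (G ((1 : K) ⊗ₜ SymmetricAlgebra.ι _ _ (1 : ULift.{u} ℤ))) = _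
    simp [F, G, g₀, Algebra.smul_def]
  haveI := isIso_mapS F ⟨Function.LeftInverse.injective (AlgHom.congr_fun h1),
    Function.RightInverse.surjective (AlgHom.congr_fun h2)⟩
  exact ⟨(Grp.forget _).mapIso j ≪≫ @asIso _ _ _ _ (mapS F) ‹_›⟩

theorem mapS_ofId_eq_toUnit {B : Type u} [CommRing B] [Algebra K B]
    (x : 𝟙_ (Over (Spec (CommRingCat.of K))) ⟶ SA K B) (A : Type u) [CommRing A] [Algebra K A] :
    ∃ χ : B →ₐ[K] K, toUnit (SA K A) ≫ x = mapS ((Algebra.ofId K A).comp χ) := by
  obtain ⟨χ, hχ⟩ := exists_mapS (toUnit (SA K K) ≫ x)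
  refine ⟨χ, ?_⟩
  rw [← mapS_comp, hχ, ← Category.assoc, toUnit_unique (mapS (Algebra.ofId K A) ≫ toUnit (SA K K)) (toUnit _)]

instance isIso_toUnit_base : IsIso (toUnit (SA K K)) := by
  haveI : IsIso ((Over.forget _).map (toUnit (SA K K))) := by
    show IsIso (toUnit (SA K K)).left
    rw [← Category.comp_id (toUnit (SA K K)).left,
      show (toUnit (SA K K)).left ≫ 𝟙 _ = _ from Over.w (toUnit (SA K K))]
    show IsIso (Spec.map (CommRingCat.ofHom (algebraMap K K)))
    rw [Algebra.algebraMap_self]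
    exact inferInstanceAs (IsIso (Spec.map (𝟙 _)))
  exact isIso_of_reflects_iso _ (Over.forget _)

/-- Constant maps from the line, on coordinate rings. -/
theorem line_iff {k : Type u} [Field k] [Algebra k K] {B : Type u} [CommRing B] [HopfAlgebra k B]
    {W : Over (Spec (CommRingCat.of k))} [GrpObj W] (eW : SA k B ≅ W) [IsMonHom eW.hom] :
    (∀ φ : Red.Ga (Spec (CommRingCat.of K)) ⟶ Red.bc (Spec.map (CommRingCat.ofHom (algebraMap k K))) W,
        ∃ c : 𝟙_ (Over (Spec (CommRingCat.of K))) ⟶ Red.bc (Spec.map (CommRingCat.ofHom (algebraMap k K))) W,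
          φ = toUnit _ ≫ c) ↔
      ∀ (ψ : B →ₐ[k] Polynomial K) (b : B), ∃ c : K, ψ b = Polynomial.C c := by
  obtain ⟨g⟩ := nonempty_Ga_iso K
  obtain ⟨j⟩ := MTBridge.nonempty_bc_specGrp k K B
  let b : Red.bc (Spec.map (CommRingCat.ofHom (algebraMap k K))) W ≅ SA K (K ⊗[k] B) :=
    (Over.pullback _).mapIso eW.symm ≪≫ (Grp.forget _).mapIso j
  constructor
  · intro h ψ x
    let Φ : K ⊗[k] B →ₐ[K] Polynomial K :=
      Algebra.TensorProduct.lift (Algebra.ofId K (Polynomial K)) ψ fun _ _ => Commute.all _ _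
    obtain ⟨c, hc⟩ := h (g.hom ≫ mapS Φ ≫ b.inv)
    obtain ⟨χ, hχ⟩ := mapS_ofId_eq_toUnit K (c ≫ b.hom) (Polynomial K)
    have h1 : mapS Φ = mapS ((Algebra.ofId K (Polynomial K)).comp χ) := by
      rw [← hχ, ← cancel_epi g.hom, ← cancel_mono b.inv, Category.assoc, hc]
      simp
    refine ⟨χ (1 ⊗ₜ x), ?_⟩
    have h2 := AlgHom.congr_fun (mapS_injective h1) (1 ⊗ₜ x)
    simpa [Φ] using h2
  · intro h φ
    obtain ⟨Φ, hΦ⟩ := exists_mapS (g.inv ≫ φ ≫ b.hom)
    let χ : K ⊗[k] B →ₐ[K] K := (Polynomial.aeval (0 : K)).comp Φ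
    refine ⟨inv (toUnit (SA K K)) ≫ mapS χ ≫ b.inv, ?_⟩
    have h1 : Φ = (Algebra.ofId K (Polynomial K)).comp χ := by
      refine Algebra.TensorProduct.ext (by ext) (AlgHom.ext fun x => ?_)
      obtain ⟨c, hc⟩ := h ((Φ.restrictScalars k).comp Algebra.TensorProduct.includeRight) x
      have hc' : Φ ((1 : K) ⊗ₜ x) = Polynomial.C c := hc
      show Φ ((1 : K) ⊗ₜ x) = Algebra.ofId K (Polynomial K) (χ ((1 : K) ⊗ₜ x))
      simp [χ, hc']
    rw [← cancel_mono b.hom, ← cancel_epi g.inv, ← hΦ, h1, ← mapS_comp]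
    simp only [Category.assoc, Iso.inv_hom_id, Category.comp_id]
    rw [← Category.assoc g.inv, toUnit_unique (g.inv ≫ toUnit _) (mapS (Algebra.ofId K (Polynomial K)) ≫ toUnit (SA K K)),
      Category.assoc, IsIso.hom_inv_id_assoc]

end Line

end Groth.Agent.PRed
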