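import Groth.Agent.PRed.Gens
import Groth.Agent.WittUnip.Affine
import Groth.Agent.MTBridge.Basic
import Groth.Agent.SmoothRed.Scheme
import Groth.Agent.GrpField.Irreducible
import Groth.Agent.LineIsog.Basic
import Groth.Prelude.Def_SekSuwa

/-!
# Commutative affine smooth groups killed by `p` as Hopf algebras
-/

set_option autoImplicit false
set_option linter.unusedSectionVars false

universe u

open CategoryTheory CategoryTheory.Limits MonoidalCategory CartesianMonoidalCategory MonObj GrpObj AlgebraicGeometry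
open WithConv TensorProduct
open Groth.Agent.LineGrp (specA mapA)

noncomputable section

namespace Groth.Agent.PRed

variable {k : Type u} [Field k] {p : ℕ} [Fact p.Prime] [CharP k p]

theorem isCommMonObj_of_comm {C : Type*} [Category C] [CartesianMonoidalCategory C] [BraidedCategory C] (U : C)
    [GrpObj U] (hcomm : ∀ (X : C) (g h : X ⟶ U), g * h = h * g) : IsCommMonObj U := ⟨by
  have h := hcomm (U ⊗ U) (snd U U) (fst U U)
  rw [Hom.mul_def, Hom.mul_def, lift_fst_snd, Category.id_comp] at h
  rw [← h]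
  congr 1
  exact CartesianMonoidalCategory.hom_ext _ _ (by simp) (by simp)⟩

/-- The coordinate Hopf algebra with its properties. -/
theorem exists_data (U : Over (Spec (CommRingCat.of k))) [GrpObj U] [IsAffine U.left] [Smooth U.hom]
    (hcomm : ∀ (X : Over (Spec (CommRingCat.of k))) (g h : X ⟶ U), g * h = h * g)
    (htors : ∀ (X : Over (Spec (CommRingCat.of k))) (g : X ⟶ U), g ^ p = 1) :
    ∃ (A : Type u) (_ : CommRing A) (_ : HopfAlgebra k A)
      (e : (Spec (CommRingCat.of A)).asOver (Spec (CommRingCat.of k)) ≅ U),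
      IsMonHom e.hom ∧ Algebra.FiniteType k A ∧ Algebra.Smooth k A ∧ Coalgebra.IsCocomm k A ∧ Killed k A p ∧
        PrimGen k A := by
  haveI := isCommMonObj_of_comm U hcomm
  obtain ⟨A, _, e, he⟩ := FinHopf.exists_hopf U
  haveI := he
  haveI : IsIso e.hom.left := inferInstanceAs (IsIso ((Over.forget _).map e.hom))
  let f : Spec A ⟶ Spec (CommRingCat.of k) := Spec.map (CommRingCat.ofHom (algebraMap k A))
  let φ : Spec A ⟶ U.left := e.hom.left
  haveI : IsIso φ := inferInstanceAs (IsIso e.hom.left)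
  have hf : f = φ ≫ U.hom := (Over.w e.hom).symm
  haveI : MorphismProperty.RespectsIso @Smooth.{u} :=
    HasRingHomProperty.eq_affineLocally (P := @Smooth.{u}) ▸ affineLocally_respectsIso (P := RingHom.Smooth) RingHom.Smooth.propertyIsLocal.respectsIso
  have hsm : Smooth f := by
    rw [hf, MorphismProperty.cancel_left_of_respectsIso @Smooth.{u}]
    infer_instance
  have hs : Algebra.Smooth k A := RingHom.smooth_algebraMap.1 ((HasRingHomProperty.Spec_iff (P := @Smooth)).1 hsm)
  haveI := hs
  haveI : Algebra.FinitePresentation k A := hs.finitePresentation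
  haveI hcc : Coalgebra.IsCocomm k A := WittUnip.isCocomm_of_iso (k := k) (A := A) e
  have hk : Killed k A p := by
    have h1 := (WittUnip.id_pow_eq_one_iff (k := k) (A := A) e p).1 (htors U (𝟙 U))
    intro a
    have h2 := AlgHom.toLinearMap_convPow (toConv (AlgHom.id k (A : Type u))) p
    have h3 := congrArg (fun t : WithConv ((A : Type u) →ₗ[k] A) => t a) h2
    exact h3.symm.trans (h1 a)
  let K := AlgebraicClosure k
  haveI : IsReduced (K ⊗[k] (A : Type u)) := SmoothRed.isReduced_of_smooth K (K ⊗[k] (A : Type u))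
  exact ⟨A, inferInstance, inferInstance, e, he, inferInstance, hs, hcc, hk,
    primGen_of_killed_of_geomReduced K hk⟩

/-- Connected smooth groups have domains as coordinate rings. -/
theorem isDomain_of_connected {A : Type u} [CommRing A] [HopfAlgebra k A] [Algebra.Smooth k A]
    {U : Over (Spec (CommRingCat.of k))} [GrpObj U] [ConnectedSpace ↥U.left]
    (e : (Spec (CommRingCat.of A)).asOver (Spec (CommRingCat.of k)) ≅ U) [LocallyOfFiniteType U.hom] : IsDomain A := by
  haveI : IsReduced A := SmoothRed.isReduced_of_smooth k A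
  haveI := GrpField.geometricallyIrreducible_of_connected U
  haveI : Subsingleton ↥(Spec (CommRingCat.of k)) := inferInstanceAs (Subsingleton (PrimeSpectrum k))
  haveI : Nonempty ↥(Spec (CommRingCat.of k)) := inferInstanceAs (Nonempty (PrimeSpectrum k))
  haveI : IrreducibleSpace ↥U.left := GeometricallyIrreducible.irreducibleSpace_of_subsingleton U.hom
  let φ : Spec (CommRingCat.of A) ⟶ U.left := e.hom.left
  haveI : IsIso φ := inferInstanceAs (IsIso ((Over.forget _).map e.hom))
  haveI : AlgebraicGeometry.IsReduced (Spec (CommRingCat.of A)) := inferInstance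
  haveI : IrreducibleSpace ↥(Spec (CommRingCat.of A)) :=
    Function.Surjective.irreducibleSpace (asIso φ).inv.continuous (asIso φ).inv.surjective
  haveI : IsIntegral (Spec (CommRingCat.of A)) := isIntegral_of_irreducibleSpace_of_isReduced _
  exact (Scheme.ΓSpecIso (CommRingCat.of A)).symm.commRingCatIsoToRingEquiv.toMulEquiv.isDomain _

variable (k) in
/-- The vector group. -/
abbrev VG (n : ℕ) : Over (Spec (CommRingCat.of k)) :=
  (Spec (CommRingCat.of (SymmetricAlgebra k (Fin n → k)))).asOver (Spec (CommRingCat.of k))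

/-- The group iso from the Hopf algebra iso. -/
theorem nonempty_iso_VG {A : Type u} [CommRing A] [HopfAlgebra k A] {U : Over (Spec (CommRingCat.of k))} [GrpObj U]
    (e : (Spec (CommRingCat.of A)).asOver (Spec (CommRingCat.of k)) ≅ U) [IsMonHom e.hom] {n : ℕ}
    (θ : Sy k n ≃ₐc[k] A) : Nonempty (Grp.mk U ≅ Grp.mk (VG k n)) := by
  obtain ⟨i⟩ := MTBridge.nonempty_specGrp_iso θ
  exact ⟨(Grp.mkIso' e).symm ≪≫ i⟩

/-- The Hopf algebra iso from a group iso after an extension. -/
theorem nonempty_bc_equiv {K : Type u} [Field K] [Algebra k K] {A : Type u} [CommRing A] [HopfAlgebra k A]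
    {U : Over (Spec (CommRingCat.of k))} [GrpObj U]
    (e : (Spec (CommRingCat.of A)).asOver (Spec (CommRingCat.of k)) ≅ U) [IsMonHom e.hom] {n : ℕ}
    (i : Grp.mk (Red.bc (Spec.map (CommRingCat.ofHom (algebraMap k K))) U) ≅ Grp.mk (VG K n)) :
    Nonempty ((K ⊗[k] A) ≃ₐc[K] Sy K n) := by
  obtain ⟨j⟩ := MTBridge.nonempty_bc_specGrp k K A
  let b := MTBridge.bcMapIso (Spec.map (CommRingCat.ofHom (algebraMap k K))) (Grp.mkIso' e)
  obtain ⟨θ⟩ := MTBridge.nonempty_bialgEquiv (A := Sy K n) (B := K ⊗[k] A) (i.symm ≪≫ b.symm ≪≫ j)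
  exact ⟨θ⟩

/-- Base change of a vector group is a vector group. -/
theorem nonempty_sy_baseChange (K : Type u) [Field K] [Algebra k K] (p : ℕ) [Fact p.Prime] [CharP k p] [CharP K p]
    (n : ℕ) : Nonempty ((K ⊗[k] Sy k n) ≃ₐc[K] Sy K n) := by
  let F : Sy K n →ₐc[K] K ⊗[k] Sy k n := gensHom p fun i => ⟨(1 : K) ⊗ₜ[k] Xe k i, one_tmul_mem_prim (X i).2⟩
  let G₀ : Sy k n →ₐ[k] Sy K n := SymmetricAlgebra.lift (lin fun i => Xe K i)
  let G : K ⊗[k] Sy k n →ₐ[K] Sy K n :=
    Algebra.TensorProduct.lift (Algebra.ofId K (Sy K n)) G₀ fun _ _ => Commute.all _ _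
  have hG : ∀ i : Fin n, G ((1 : K) ⊗ₜ[k] Xe k i) = Xe K i := fun i => by
    simp [G, G₀, lin_single]
  have h1 : G.comp (F : Sy K n →ₐ[K] K ⊗[k] Sy k n) = AlgHom.id K _ := Sy.algHom_ext fun i => by
    show G (F (Xe K i)) = Xe K i
    rw [gensHom_X]
    exact hG i
  have h2 : (F : Sy K n →ₐ[K] K ⊗[k] Sy k n).comp G = AlgHom.id K _ := by
    refine Algebra.TensorProduct.ext (by ext) (Sy.algHom_ext fun i => ?_)
    show F (G ((1 : K) ⊗ₜ[k] Xe k i)) = (1 : K) ⊗ₜ[k] Xe k i
    rw [hG, gensHom_X]
  exact ⟨(BialgEquiv.ofBijective F ⟨Function.LeftInverse.injective (AlgHom.congr_fun h1),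
    Function.RightInverse.surjective (AlgHom.congr_fun h2)⟩).symm⟩

end Groth.Agent.PRed
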