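import Groth.Agent.PRed.Base
import Groth.Agent.PRed.Frob
import Groth.Prelude.Def_Red2
import Mathlib.RingTheory.HopfAlgebra.Quotient
import Mathlib.Algebra.Polynomial.Expand

/-!
# Vector group factors from free summands of the primitive elements
-/

set_option autoImplicit false
set_option linter.unusedSectionVars false

universe u v w

open TensorProduct Coalgebra
open Groth.Agent.UnipZero (prim mem_prim counit_prim)

noncomputable section

namespace Groth.Agent.PRed

variable {k : Type u} [Field k]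

section General

variable {A : Type v} [CommRing A] [Bialgebra k A] {B : Type w} [CommRing B] [Bialgebra k B]

theorem algebraMap_mem_prim_iff {c : k} : algebraMap k A c ∈ prim k A → c = 0 := fun h => by
  simpa using counit_prim h

/-- Algebra homomorphisms preserving primitive elements are bialgebra homomorphisms. -/
def toBialgHom (hA : PrimGen k A) (F : A →ₐ[k] B) (hF : ∀ a ∈ prim k A, F a ∈ prim k B) : A →ₐc[k] B :=
  BialgHom.ofAlgHom F
    (algHom_ext hA fun a ha => by
      simp only [AlgHom.comp_apply, Bialgebra.counitAlgHom_apply]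
      rw [counit_prim ha, counit_prim (hF a ha)])
    (algHom_ext hA fun a ha => by
      simp only [AlgHom.comp_apply, Bialgebra.comulAlgHom_apply]
      rw [mem_prim.1 ha, mem_prim.1 (hF a ha)]
      simp)

theorem toBialgHom_apply (hA : PrimGen k A) (F : A →ₐ[k] B) (hF : ∀ a ∈ prim k A, F a ∈ prim k B) (a : A) :
    toBialgHom hA F hF a = F a := rfl

theorem map_mem_prim {F : Type*} [FunLike F A B] [BialgHomClass F k A B] (f : F) {a : A} (ha : a ∈ prim k A) :
    f a ∈ prim k B := by
  rw [mem_prim, ← CoalgHomClass.map_comp_comul_apply f a, mem_prim.1 ha, map_add]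
  simp

/-- Generation passes to quotients. -/
theorem primGen_of_surjective {F : Type*} [FunLike F A B] [BialgHomClass F k A B] (f : F)
    (hf : Function.Surjective f) (hA : PrimGen k A) : PrimGen k B := by
  refine eq_top_iff.2 fun b _ => ?_
  obtain ⟨a, rfl⟩ := hf b
  have h : (Algebra.adjoin k (prim k A : Set A)).map (f : A →ₐ[k] B) ≤ Algebra.adjoin k (prim k B : Set B) := by
    rw [AlgHom.map_adjoin]
    refine Algebra.adjoin_mono ?_
    rintro _ ⟨x, hx, rfl⟩
    exact map_mem_prim f hx
  exact h ⟨a, by rw [hA]; exact Algebra.mem_top, rfl⟩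

theorem antipode_prim {H : Type v} [CommRing H] [HopfAlgebra k H] {x : H} (hx : x ∈ prim k H) :
    HopfAlgebra.antipode k x = -x := by
  have h := HopfAlgebra.mul_antipode_rTensor_comul_apply (R := k) x
  rwa [mem_prim.1 hx, map_add, LinearMap.rTensor_tmul, LinearMap.rTensor_tmul, map_add, LinearMap.mul'_apply,
    LinearMap.mul'_apply, HopfAlgebra.antipode_one, mul_one, one_mul, counit_prim hx, map_zero,
    add_eq_zero_iff_eq_neg] at h

/-- An ideal generated by primitive elements is a Hopf ideal. -/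
theorem isHopfIdeal_span_prim {H : Type v} [CommRing H] [HopfAlgebra k H] {T : Set H} (hT : T ⊆ prim k H) :
    (Ideal.span T).IsHopfIdeal k := by
  let I := Ideal.span T
  let ψ : H →ₐ[k] (H ⧸ I) ⊗[k] (H ⧸ I) :=
    (Algebra.TensorProduct.map (Ideal.Quotient.mkₐ k I) (Ideal.Quotient.mkₐ k I)).comp (Bialgebra.comulAlgHom k H)
  have hε : ∀ a ∈ I, counit (R := k) a = 0 := by
    intro a ha
    have : I ≤ RingHom.ker (Bialgebra.counitAlgHom k H) := Ideal.span_le.2 fun b hb => counit_prim (hT hb)
    exact this ha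
  have hψ : ∀ a ∈ I, ψ a = 0 := by
    intro a ha
    have : I ≤ RingHom.ker ψ := Ideal.span_le.2 fun b hb => by
      show ψ b = 0
      have hb0 : Ideal.Quotient.mk I b = 0 := Ideal.Quotient.eq_zero_iff_mem.2 (Ideal.subset_span hb)
      simp [ψ, mem_prim.1 (hT hb), hb0]
    exact this ha
  exact
    { toIsCoideal := ⟨fun a ha => hε a ha, fun a ha => hψ a ha⟩
      antipode_mem := fun a ha => by
        induction ha using Submodule.span_induction with
        | mem b hb => rw [antipode_prim (hT hb)]; exact neg_mem (Ideal.subset_span hb)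
        | zero => rw [map_zero]; exact zero_mem _
        | add x y _ _ hx hy => rw [map_add]; exact add_mem hx hy
        | smul c x _ hx =>
          rw [smul_eq_mul, HopfAlgebra.antipode_mul_antidistrib]
          exact Ideal.mul_mem_right _ _ hx }

variable {p : ℕ} [Fact p.Prime] [CharP k p]

theorem map_fp {F : Type*} [FunLike F A B] [BialgHomClass F k A B] (f : F) (a : prim k A) :
    (⟨f (fp p a), map_mem_prim f (fp p a).2⟩ : prim k B) = fp p ⟨f a, map_mem_prim f a.2⟩ :=
  Subtype.ext (map_pow f (a : A) p)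

/-- Finitely many primitive elements generate under powers and combinations. -/
theorem exists_finite_gen [Algebra.FiniteType k A] (hA : PrimGen k A) :
    ∃ S₀ : Finset (prim k A), ⊤ ≤ Submodule.span k (Set.range fun q : S₀ × ℕ => (fp p)^[q.2] (q.1 : prim k A)) := by
  classical
  obtain ⟨T, hT⟩ := (inferInstance : Algebra.FiniteType k A).1
  have hfin : ∀ a : A, ∃ s : Finset (prim k A), a ∈ Algebra.adjoin k ((fun x : prim k A => (x : A)) '' s) := by
    intro a
    have ha : a ∈ Algebra.adjoin k (prim k A : Set A) := by rw [hA]; exact Algebra.mem_top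
    induction ha using Algebra.adjoin_induction with
    | mem x hx => exact ⟨{⟨x, hx⟩}, Algebra.subset_adjoin ⟨⟨x, hx⟩, by simp, rfl⟩⟩
    | algebraMap r => exact ⟨∅, Subalgebra.algebraMap_mem _ r⟩
    | add x y _ _ hx hy =>
      obtain ⟨s, hs⟩ := hx
      obtain ⟨t, ht⟩ := hy
      exact ⟨s ∪ t, add_mem (Algebra.adjoin_mono (Set.image_mono (by simp)) hs)
        (Algebra.adjoin_mono (Set.image_mono (by simp)) ht)⟩
    | mul x y _ _ hx hy =>
      obtain ⟨s, hs⟩ := hx
      obtain ⟨t, ht⟩ := hy
      exact ⟨s ∪ t, mul_mem (Algebra.adjoin_mono (Set.image_mono (by simp)) hs)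
        (Algebra.adjoin_mono (Set.image_mono (by simp)) ht)⟩
  choose s hs using hfin
  let S₀ : Finset (prim k A) := T.biUnion s
  refine ⟨S₀, ?_⟩
  set N := Submodule.span k (Set.range fun q : S₀ × ℕ => (fp p)^[q.2] (q.1 : prim k A)) with hN
  let M : Submodule k A := N.map (prim k A).subtype
  have hM : IsPStable p M := by
    rintro _ ⟨x, hx, rfl⟩
    refine ⟨fp p x, ?_, rfl⟩
    rw [SetLike.mem_coe, hN] at hx ⊢
    induction hx using Submodule.span_induction with
    | mem y hy =>
      obtain ⟨⟨y, e⟩, rfl⟩ := hy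
      exact Submodule.subset_span ⟨(y, e + 1), Function.iterate_succ_apply' _ _ _⟩
    | zero => rw [fp_zero]; exact zero_mem _
    | add x y _ _ hx hy => rw [fp_add]; exact add_mem hx hy
    | smul c x _ hx => rw [fp_smul]; exact Submodule.smul_mem _ _ hx
  have hgen : Algebra.adjoin k (M : Set A) = ⊤ := by
    refine eq_top_iff.2 (hT ▸ Algebra.adjoin_le fun t ht => ?_)
    refine Algebra.adjoin_mono ?_ (hs t)
    rintro _ ⟨x, hx, rfl⟩
    exact ⟨x, Submodule.subset_span ⟨(⟨x, Finset.mem_biUnion.2 ⟨t, ht, hx⟩⟩, 0), rfl⟩, rfl⟩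
  intro a _
  have h : (a : A) ∈ M := by
    rw [eq_prim_of_adjoin p (by rintro _ ⟨x, -, rfl⟩; exact x.2) hM hgen]
    exact a.2
  obtain ⟨x, hx, hxa⟩ := h
  rwa [← show x = a from Subtype.ext hxa]

end General

section Sym

variable (k) (n : ℕ)

/-- The coordinate ring of a vector group. -/
abbrev Sy : Type u := SymmetricAlgebra k (Fin n → k)

variable {k n}

/-- The linear map with given values on the standard basis. -/
def lin {B : Type w} [AddCommGroup B] [Module k B] (y : Fin n → B) : (Fin n → k) →ₗ[k] B :=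
  ∑ i, (LinearMap.proj i).smulRight (y i)

theorem lin_single {B : Type w} [AddCommGroup B] [Module k B] (y : Fin n → B) (i : Fin n) :
    lin y (Pi.single i (1 : k)) = y i := by
  classical
  simp [lin, LinearMap.sum_apply, Pi.single_apply]

variable (k) in
/-- The coordinates of a vector group, as elements. -/
abbrev Xe (i : Fin n) : Sy k n := SymmetricAlgebra.ι k (Fin n → k) (Pi.single i 1)

/-- The coordinates of a vector group. -/
def X (i : Fin n) : prim k (Sy k n) := ⟨Xe k i, mem_prim.2 (SymmetricAlgebra.comul_ι k _ _)⟩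

theorem coe_X (i : Fin n) : ((X i : prim k (Sy k n)) : Sy k n) = Xe k i := rfl

theorem lift_X {B : Type w} [CommRing B] [Algebra k B] (y : Fin n → B) (i : Fin n) :
    SymmetricAlgebra.lift (lin y) (Xe k i) = y i := by
  rw [SymmetricAlgebra.lift_ι_apply, lin_single]

theorem Sy.algHom_ext {B : Type w} [CommRing B] [Algebra k B] {F G : Sy k n →ₐ[k] B}
    (h : ∀ i, F (Xe k i) = G (Xe k i)) : F = G :=
  SymmetricAlgebra.algHom_ext (LinearMap.pi_ext' fun i => LinearMap.ext_ring (h i))

theorem Sy.adjoin_X : Algebra.adjoin k (Set.range fun i : Fin n => Xe k i) = ⊤ := by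
  refine eq_top_iff.2 fun a _ => ?_
  induction a using SymmetricAlgebra.induction with
  | algebraMap r => exact Subalgebra.algebraMap_mem _ r
  | ι x =>
    rw [← Finset.univ_sum_single x, map_sum]
    refine Subalgebra.sum_mem _ fun i _ => ?_
    rw [show Pi.single i (x i) = x i • (Pi.single i (1 : k) : Fin n → k) from funext fun j => by simp [Pi.single_apply], map_smul]
    exact Subalgebra.smul_mem _ (Algebra.subset_adjoin (Set.mem_range_self (f := fun i : Fin n => Xe k i) i)) _
  | mul a b ha hb => exact mul_mem (ha trivial) (hb trivial)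
  | add a b ha hb => exact add_mem (ha trivial) (hb trivial)

theorem Sy.primGen : PrimGen k (Sy k n) :=
  eq_top_iff.2 (Sy.adjoin_X.ge.trans (Algebra.adjoin_mono (by rintro _ ⟨i, rfl⟩; exact (X i).2)))

variable (p : ℕ) [Fact p.Prime] [CharP k p]

theorem Sy.prim_eq (y : prim k (Sy k n)) : ∃ q : Fin n → ℕ →₀ k, y = ∑ i, gen p (X i) (q i) := by
  classical
  let G : (Fin n → ℕ →₀ k) →ₗ[k] prim k (Sy k n) := ∑ i, gen p (X i) ∘ₗ LinearMap.proj i
  let M : Submodule k (Sy k n) := (LinearMap.range G).map (prim k (Sy k n)).subtype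
  have hM : IsPStable p M := by
    rintro _ ⟨_, ⟨q, rfl⟩, rfl⟩
    refine ⟨fp p (G q), ⟨fun i => sh p (q i), ?_⟩, rfl⟩
    simp only [G, LinearMap.sum_apply, LinearMap.comp_apply, LinearMap.proj_apply, gen_sh, fp_sum]
  have hgen : Algebra.adjoin k (M : Set (Sy k n)) = ⊤ := by
    refine eq_top_iff.2 (Sy.adjoin_X.ge.trans (Algebra.adjoin_mono ?_))
    rintro _ ⟨i, rfl⟩
    refine ⟨X i, ⟨Pi.single i (Finsupp.single 0 1), ?_⟩, rfl⟩
    simp only [G, LinearMap.sum_apply, LinearMap.comp_apply, LinearMap.proj_apply]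
    rw [Finset.sum_eq_single i (fun j _ hj => by simp [hj]) (fun h => absurd (Finset.mem_univ i) h)]
    simp [gen_single]
  have h : (y : Sy k n) ∈ M := by
    rw [eq_prim_of_adjoin p (by rintro _ ⟨x, -, rfl⟩; exact x.2) hM hgen]
    exact y.2
  obtain ⟨x, ⟨q, rfl⟩, hx⟩ := h
  refine ⟨q, (Subtype.ext hx.symm).trans ?_⟩
  simp [G]

/-- Restriction to a coordinate line. -/
def qline (i : Fin n) : Sy k n →ₐ[k] Polynomial k :=
  SymmetricAlgebra.lift (lin (Pi.single i Polynomial.X))

/-- A block of coefficients of a polynomial. -/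
def blk (m : ℕ) (hm : 0 < m) : Polynomial k →ₗ[k] (ℕ →₀ k) where
  toFun q := Finsupp.onFinset ((Finset.range (q.natDegree + 1))) (fun e => q.coeff (m * p ^ e)) fun e he => by
    rw [Finset.mem_range]
    have h1 := Polynomial.le_natDegree_of_ne_zero he
    have h2 : e < p ^ e := Nat.lt_pow_self (Fact.out : p.Prime).one_lt
    have h3 : p ^ e ≤ m * p ^ e := Nat.le_mul_of_pos_left _ hm
    omega
  map_add' q q' := by ext e; simp
  map_smul' c q := by ext e; simp

theorem blk_apply (m : ℕ) (hm : 0 < m) (q : Polynomial k) (e : ℕ) : blk p m hm q e = q.coeff (m * p ^ e) := rfl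

theorem blk_pow {m : ℕ} (hm : 0 < m) (hpm : ¬ p ∣ m) (q : Polynomial k) : blk p m hm (q ^ p) = sh p (blk p m hm q) := by
  haveI : ExpChar k p := ExpChar.prime Fact.out
  ext e
  rw [blk_apply, ← Polynomial.map_frobenius_expand, Polynomial.coeff_map, Polynomial.coeff_expand (Fact.out : p.Prime).pos]
  cases e with
  | zero => rw [sh_zero, pow_zero, mul_one, if_neg hpm, map_zero]
  | succ e =>
    rw [sh_succ, blk_apply, pow_succ, ← mul_assoc, if_pos (dvd_mul_left _ _), Nat.mul_div_cancel _ (Fact.out : p.Prime).pos,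
      frobenius_def]

theorem qline_gen (i j : Fin n) (q : ℕ →₀ k) :
    qline i (gen p (X (k := k) j) q : Sy k n) =
      if i = j then q.sum fun e c => Polynomial.monomial (p ^ e) c else 0 := by
  induction q using Finsupp.induction_linear with
  | zero => simp
  | add a b ha hb =>
    rw [map_add, Submodule.coe_add, map_add, ha, hb]
    split_ifs
    · rw [Finsupp.sum_add_index' (fun e => by simp) (fun e a b => by simp)]
    · rw [add_zero]
  | single e c =>
    rw [gen_single, Submodule.coe_smul, coe_iterate_fp, coe_X, map_smul, map_pow, qline, lift_X]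
    split_ifs with h
    · subst h
      rw [Pi.single_eq_same, Finsupp.sum_single_index (by simp), Polynomial.X_pow_eq_monomial, Polynomial.smul_monomial,
        smul_eq_mul, mul_one]
    · rw [Pi.single_eq_of_ne (Ne.symm h), zero_pow (pow_ne_zero _ (Fact.out : p.Prime).ne_zero), smul_zero]

/-- A nonzero primitive element is seen on some coordinate line. -/
theorem Sy.exists_line {y : prim k (Sy k n)} (hy : y ≠ 0) : ∃ i, blk p 1 one_pos (qline i (y : Sy k n)) ≠ 0 := by
  classical
  obtain ⟨q, rfl⟩ := Sy.prim_eq p y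
  obtain ⟨i, hi⟩ : ∃ i, q i ≠ 0 := by
    by_contra h
    push Not at h
    exact hy (by simp [h])
  refine ⟨i, fun h => hi (Finsupp.ext fun e => ?_)⟩
  have h' := Finsupp.ext_iff.1 h e
  rw [blk_apply, Submodule.coe_sum, map_sum, Polynomial.finsetSum_coeff, one_mul] at h'
  simp only [qline_gen] at h'
  rw [Finset.sum_eq_single i (fun j _ hj => by simp [Ne.symm hj]) (fun hh => absurd (Finset.mem_univ i) hh),
    if_pos rfl, Finsupp.sum, Polynomial.finsetSum_coeff, Finset.sum_eq_single e] at h'
  · simpa using h'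
  · intro j _ hj
    rw [Polynomial.coeff_monomial, if_neg]
    exact fun hh => hj (Nat.pow_right_injective (Fact.out : p.Prime).two_le hh)
  · intro he
    rw [Finsupp.notMem_support_iff.1 he]
    simp

end Sym

section Split

variable {p : ℕ} [Fact p.Prime] [CharP k p] {A : Type u} [CommRing A] [HopfAlgebra k A]
variable {r : ℕ} (S : Split k p A r)

/-- The projection onto the vector group. -/
def rho : Sy k r →ₐc[k] A :=
  toBialgHom Sy.primGen (SymmetricAlgebra.lift (lin fun i => (S.e i : A))) (fun a ha => by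
    obtain ⟨q, hq⟩ := Sy.prim_eq p ⟨a, ha⟩
    rw [show a = ((∑ i, gen p (X i) (q i) : prim k (Sy k r)) : Sy k r) from congrArg Subtype.val hq,
      Submodule.coe_sum, map_sum]
    refine Submodule.sum_mem _ fun i _ => ?_
    induction q i using Finsupp.induction_linear with
    | zero => simp
    | add x y hx hy => rw [map_add, Submodule.coe_add, map_add]; exact add_mem hx hy
    | single e c =>
      rw [gen_single, Submodule.coe_smul, coe_iterate_fp, coe_X, map_smul, map_pow, lift_X, ← coe_iterate_fp]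
      exact Submodule.smul_mem _ _ (Subtype.mem _))

theorem rho_X (i : Fin r) : rho S (Xe k i) = (S.e i : A) := lift_X (fun i => (S.e i : A)) i

theorem rho_gen (i : Fin r) (q : ℕ →₀ k) : rho S (gen p (X i) q : Sy k r) = (gen p (S.e i) q : A) := by
  induction q using Finsupp.induction_linear with
  | zero => simp
  | add a b ha hb => simp only [map_add, Submodule.coe_add, ha, hb]
  | single e c => rw [gen_single, gen_single, Submodule.coe_smul, Submodule.coe_smul, coe_iterate_fp, coe_iterate_fp,
      coe_X, map_smul, map_pow, rho_X]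

variable (hA : PrimGen k A)

/-- The linear part of the section. -/
def sigmaLin : prim k A →ₗ[k] Sy k r :=
  ∑ i, (prim k (Sy k r)).subtype ∘ₗ gen p (X i) ∘ₗ S.c i

theorem sigmaLin_apply (a : prim k A) :
    sigmaLin S a = ((∑ i, gen p (X i) (S.c i a) : prim k (Sy k r)) : Sy k r) := by simp [sigmaLin]

theorem sigmaLin_pow (a : prim k A) : sigmaLin S (fp p a) = sigmaLin S a ^ p := by
  rw [sigmaLin_apply, sigmaLin_apply, ← coe_fp, fp_sum]
  exact congrArg Subtype.val (Finset.sum_congr rfl fun i _ => by rw [S.equiv i, gen_sh])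

/-- The inclusion of the vector group. -/
def sigma : A →ₐc[k] Sy k r :=
  toBialgHom hA (exists_lift p hA (sigmaLin S) (sigmaLin_pow S)).choose fun a ha => by
    rw [(exists_lift p hA (sigmaLin S) (sigmaLin_pow S)).choose_spec ⟨a, ha⟩, sigmaLin_apply]
    exact Subtype.mem _

theorem sigma_prim (a : prim k A) : sigma S hA a = ((∑ i, gen p (X i) (S.c i a) : prim k (Sy k r)) : Sy k r) := by
  rw [sigma, toBialgHom_apply, (exists_lift p hA (sigmaLin S) (sigmaLin_pow S)).choose_spec a, sigmaLin_apply]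

theorem sigma_rho (y : Sy k r) : sigma S hA (rho S y) = y := by
  refine AlgHom.congr_fun (φ₁ := ((sigma S hA : A →ₐ[k] Sy k r)).comp (rho S : Sy k r →ₐ[k] A))
    (φ₂ := AlgHom.id k _) (Sy.algHom_ext fun j => ?_) y
  show sigma S hA (rho S (Xe k j)) = Xe k j
  rw [rho_X, sigma_prim, Finset.sum_eq_single j (fun i _ hi => by rw [S.dual, if_neg hi, map_zero])
    (fun h => absurd (Finset.mem_univ j) h), S.dual, if_pos rfl, gen_single, one_smul]
  rfl

theorem rho_sigma_prim (a : prim k A) : rho S (sigma S hA a) = ((a - S.proj a : prim k A) : A) := by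
  rw [sigma_prim, Submodule.coe_sum, map_sum, Split.proj_apply, sub_sub_cancel, Submodule.coe_sum]
  exact Finset.sum_congr rfl fun i _ => rho_gen S i _

/-- When there is no complement the group is a vector group. -/
def equivOfFree (h : ∀ a, S.proj a = 0) : Sy k r ≃ₐc[k] A :=
  BialgEquiv.ofBijective (rho S)
    ⟨Function.LeftInverse.injective (g := sigma S hA) (sigma_rho S hA), fun a => ⟨sigma S hA a, by
      refine AlgHom.congr_fun (φ₁ := ((rho S : Sy k r →ₐ[k] A)).comp (sigma S hA : A →ₐ[k] Sy k r))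
        (φ₂ := AlgHom.id k A) (algHom_ext hA fun x hx => ?_) a
      show rho S (sigma S hA x) = x
      rw [rho_sigma_prim S hA ⟨x, hx⟩, h, sub_zero]⟩⟩

/-- The ideal of the complement. -/
def cIdeal : Ideal A := Ideal.span (Set.range fun i => (S.e i : A))

instance : (cIdeal S).IsHopfIdeal k := isHopfIdeal_span_prim (by rintro _ ⟨i, rfl⟩; exact (S.e i).2)

theorem e_mem (i : Fin r) : (S.e i : A) ∈ cIdeal S := Ideal.subset_span (Set.mem_range_self (f := fun i => (S.e i : A)) i)

theorem gen_e_mem (i : Fin r) (q : ℕ →₀ k) : (gen p (S.e i) q : A) ∈ cIdeal S := by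
  induction q using Finsupp.induction_linear with
  | zero => simp
  | add a b ha hb => rw [map_add, Submodule.coe_add]; exact add_mem ha hb
  | single e c =>
    rw [gen_single, Submodule.coe_smul, coe_iterate_fp, Algebra.smul_def]
    exact Ideal.mul_mem_left _ _ (Ideal.pow_mem_of_mem _ (e_mem S i) _
      (pow_pos (Fact.out : p.Prime).pos e))

theorem mk_proj (a : prim k A) : Ideal.Quotient.mk (cIdeal S) (S.proj a : A) = Ideal.Quotient.mk (cIdeal S) (a : A) := by
  rw [Ideal.Quotient.mk_eq_mk_iff_sub_mem, Split.proj_apply, Submodule.coe_sub, sub_sub_cancel_left]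
  refine neg_mem ?_
  rw [Submodule.coe_sum]
  exact Ideal.sum_mem _ fun i _ => gen_e_mem S i _

include hA in
theorem exists_sec : ∃ s : (A ⧸ cIdeal S) →ₐ[k] A, ∀ a : prim k A, s (Ideal.Quotient.mk _ (a : A)) = (S.proj a : A) := by
  obtain ⟨F, hF⟩ := exists_lift p hA ((prim k A).subtype ∘ₗ S.proj) fun a =>
    congrArg Subtype.val (S.proj_fp a)
  have hI : cIdeal S ≤ RingHom.ker F := Ideal.span_le.2 (by
    rintro _ ⟨i, rfl⟩
    show F (S.e i : A) = 0
    rw [hF]
    simp [S.proj_e])
  exact ⟨Ideal.Quotient.liftₐ _ F hI, fun a => hF a⟩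

/-- The section of the quotient by the vector group. -/
def sec : (A ⧸ cIdeal S) →ₐ[k] A := (exists_sec S hA).choose

theorem sec_mk (a : prim k A) : sec S hA (Ideal.Quotient.mk _ (a : A)) = (S.proj a : A) :=
  (exists_sec S hA).choose_spec a

theorem mk_sec (x : A ⧸ cIdeal S) : Ideal.Quotient.mk _ (sec S hA x) = x := by
  obtain ⟨a, rfl⟩ := Ideal.Quotient.mk_surjective x
  exact AlgHom.congr_fun (φ₁ := ((Ideal.Quotient.mkₐ k (cIdeal S)).comp (sec S hA)).comp (Ideal.Quotient.mkₐ k _))
    (φ₂ := Ideal.Quotient.mkₐ k _) (algHom_ext hA fun y hy => by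
      show Ideal.Quotient.mk _ (sec S hA (Ideal.Quotient.mk _ y)) = Ideal.Quotient.mk _ y
      rw [sec_mk S hA ⟨y, hy⟩, mk_proj S ⟨y, hy⟩]) a

/-- The product decomposition, on coordinate rings. -/
def dec : A →ₐ[k] Sy k r ⊗[k] (A ⧸ cIdeal S) :=
  (Algebra.TensorProduct.map (sigma S hA : A →ₐ[k] Sy k r) (Ideal.Quotient.mkₐ k (cIdeal S))).comp
    (Bialgebra.comulAlgHom k A)

theorem dec_prim (a : prim k A) : dec S hA a =
    sigma S hA a ⊗ₜ[k] 1 + 1 ⊗ₜ[k] Ideal.Quotient.mk (cIdeal S) (a : A) := by
  simp [dec, mem_prim.1 a.2]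

theorem dec_bijective : Function.Bijective (dec S hA) := by
  let Ψ : Sy k r ⊗[k] (A ⧸ cIdeal S) →ₐ[k] A :=
    Algebra.TensorProduct.lift (rho S : Sy k r →ₐ[k] A) (sec S hA) fun _ _ => Commute.all _ _
  have h1 : Ψ.comp (dec S hA) = AlgHom.id k A := algHom_ext hA fun a ha => by
    show Ψ (dec S hA a) = a
    rw [dec_prim S hA ⟨a, ha⟩, map_add]
    simp only [Ψ, Algebra.TensorProduct.lift_tmul, map_one, mul_one, one_mul]
    show rho S (sigma S hA a) + sec S hA (Ideal.Quotient.mk _ a) = a
    rw [rho_sigma_prim S hA ⟨a, ha⟩, sec_mk S hA ⟨a, ha⟩]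
    simp
  have hsec : ∀ a : prim k A, sigma S hA (S.proj a : A) = 0 := fun a => by
    rw [sigma_prim]
    simp [S.c_proj]
  have h2 : (dec S hA).comp Ψ = AlgHom.id k _ := by
    refine Algebra.TensorProduct.ext (Sy.algHom_ext fun j => ?_) (Ideal.Quotient.algHom_ext k (algHom_ext hA fun a ha => ?_))
    · show dec S hA (Ψ (Xe k j ⊗ₜ 1)) = Xe k j ⊗ₜ 1
      simp only [Ψ, Algebra.TensorProduct.lift_tmul, map_one, mul_one]
      show dec S hA (rho S (Xe k j)) = _
      rw [rho_X, dec_prim, show sigma S hA (S.e j : A) = Xe k j by rw [← rho_X, sigma_rho],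
        Ideal.Quotient.eq_zero_iff_mem.2 (e_mem S j), TensorProduct.tmul_zero, add_zero]
    · show dec S hA (Ψ (1 ⊗ₜ Ideal.Quotient.mk _ a)) = 1 ⊗ₜ Ideal.Quotient.mk _ a
      simp only [Ψ, Algebra.TensorProduct.lift_tmul, map_one, one_mul]
      rw [sec_mk S hA ⟨a, ha⟩, dec_prim, hsec, TensorProduct.zero_tmul, zero_add, mk_proj]
  exact ⟨Function.LeftInverse.injective (AlgHom.congr_fun h1), Function.RightInverse.surjective (AlgHom.congr_fun h2)⟩

/-- With a maximal summand the complement has only constant maps to lines, over separable extensions. -/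
theorem line_const {K : Type v} [Field K] [Algebra k K] [Algebra.IsSeparable k K] [CharP K p]
    (hmax : ∀ f, IsFEq p f → ∀ a, f (S.proj a) = 0) (ψ : A →ₐ[k] Polynomial K)
    (hψ : ∀ x ∈ cIdeal S, ψ x = 0) (a : prim k A) : ∃ c : K, ψ a = Polynomial.C c := by
  refine ⟨(ψ a).coeff 0, Polynomial.ext fun l => ?_⟩
  rcases Nat.eq_zero_or_pos l with rfl | hl
  · simp
  rw [Polynomial.coeff_C, if_neg hl.ne']
  obtain ⟨e, m, hm, rfl⟩ := Nat.exists_eq_pow_mul_and_not_dvd hl.ne' p (Fact.out : p.Prime).ne_one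
  have hm0 : 0 < m := Nat.pos_of_ne_zero fun h => hm (h ▸ dvd_zero p)
  let f : prim k A →ₗ[k] (ℕ →₀ K) := ((blk p m hm0).restrictScalars k) ∘ₗ ψ.toLinearMap ∘ₗ (prim k A).subtype
  suffices h : f (S.proj a) = 0 by
    have h' := Finsupp.ext_iff.1 h e
    simp only [f, LinearMap.comp_apply, LinearMap.restrictScalars_apply, AlgHom.toLinearMap_apply,
      Submodule.subtype_apply, blk_apply, Finsupp.zero_apply] at h'
    have hd : ψ (S.proj a : A) = ψ a := by
      rw [← sub_eq_zero, ← map_sub]
      exact hψ _ (Ideal.Quotient.mk_eq_mk_iff_sub_mem _ _ |>.1 (mk_proj S a))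
    rwa [hd, mul_comm] at h'
  by_contra h
  obtain ⟨R, hR, hRne⟩ := coeff_retraction (k := k) p h
  refine hRne (hmax (R ∘ₗ f) (fun b => ?_) a)
  show R (f (fp p b)) = sh p (R (f b))
  rw [← hR]
  congr 1
  simp [f, coe_fp, map_pow, blk_pow p hm0 hm]

end Split

section Descent

variable {p : ℕ} [Fact p.Prime] [CharP k p] {A : Type u} [CommRing A] [HopfAlgebra k A]
variable {K : Type v} [Field K] [Algebra k K] [Algebra.IsSeparable k K] [CharP K p]

/-- A maximal summand is everything when an extension is a vector group. -/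
theorem proj_eq_zero_of_baseChange {r n : ℕ} (S : Split k p A r) (hmax : ∀ f, IsFEq p f → ∀ a, f (S.proj a) = 0)
    (θ : (K ⊗[k] A) ≃ₐc[K] Sy K n) (a : prim k A) : S.proj a = 0 := by
  classical
  by_contra hne
  set x := S.proj a
  have h1x : ((1 : K) ⊗ₜ[k] (x : A) : K ⊗[k] A) ≠ 0 := fun h0 => hne (Subtype.ext
    (((Module.FaithfullyFlat.one_tmul_eq_zero_iff k A (A := K) (x : A))).1 h0))
  let y : prim K (Sy K n) := ⟨θ ((1 : K) ⊗ₜ[k] (x : A)), map_mem_prim θ (one_tmul_mem_prim x.2)⟩
  have hy : y ≠ 0 := fun h => h1x (θ.injective (by rw [map_zero]; exact congrArg Subtype.val h))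
  obtain ⟨i, hi⟩ := Sy.exists_line p hy
  let ψ : A →ₐ[k] Polynomial K :=
    (((qline i).comp (θ : (K ⊗[k] A) →ₐ[K] Sy K n)).restrictScalars k).comp Algebra.TensorProduct.includeRight
  let f : prim k A →ₗ[k] (ℕ →₀ K) := ((blk p 1 one_pos).restrictScalars k) ∘ₗ ψ.toLinearMap ∘ₗ (prim k A).subtype
  obtain ⟨R, hR, hRne⟩ := coeff_retraction (k := k) p (a := f x) hi
  refine hRne (hmax (R ∘ₗ f) (fun b => ?_) a)
  show R (f (fp p b)) = sh p (R (f b))
  rw [← hR]
  congr 1
  have h : ψ ((fp p b : prim k A) : A) = ψ (b : A) ^ p := by rw [coe_fp, map_pow]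
  show blk p 1 one_pos (ψ ((fp p b : prim k A) : A)) = _
  rw [h, blk_pow p one_pos (fun h => (Fact.out : p.Prime).one_lt.ne' (Nat.dvd_one.1 h))]
  rfl

/-- A vector group after a separable extension is a vector group. -/
theorem exists_equiv_of_baseChange (p : ℕ) [Fact p.Prime] [CharP k p] [CharP K p] [Algebra.FiniteType k A] (hA : PrimGen k A) {n : ℕ}
    (θ : (K ⊗[k] A) ≃ₐc[K] Sy K n) : ∃ r, Nonempty (Sy k r ≃ₐc[k] A) := by
  obtain ⟨S₀, hS₀⟩ := exists_finite_gen (p := p) hA
  obtain ⟨r, S, hmax⟩ := exists_maximal_split hS₀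
  exact ⟨r, ⟨equivOfFree S hA (proj_eq_zero_of_baseChange S hmax θ)⟩⟩

/-- Over a perfect field, connected smooth groups killed by `p` are vector groups. -/
theorem exists_equiv_of_perfect (p : ℕ) [Fact p.Prime] [CharP k p] [PerfectField k] [IsDomain A] [Algebra.FiniteType k A] (hA : PrimGen k A) :
    ∃ r, Nonempty (Sy k r ≃ₐc[k] A) := by
  classical
  obtain ⟨S₀, hS₀⟩ := exists_finite_gen (p := p) hA
  obtain ⟨r, S, hproj⟩ := exists_split_of_perfect hS₀ fun x q hq h => by
    let P : Polynomial k := q.sum fun e c => Polynomial.monomial (p ^ e) c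
    have hP : P ≠ 0 := by
      obtain ⟨M, hM, -⟩ := exists_top hq
      intro h0
      have h' := congrArg (fun t => Polynomial.coeff t (p ^ M)) h0
      simp only [P, Finsupp.sum, Polynomial.finsetSum_coeff, Polynomial.coeff_zero] at h'
      rw [Finset.sum_eq_single M] at h'
      · simp at h'; exact hM h'
      · intro j _ hj
        rw [Polynomial.coeff_monomial, if_neg]
        exact fun hh => hj (Nat.pow_right_injective (Fact.out : p.Prime).two_le hh)
      · intro hh; simp [Finsupp.notMem_support_iff.1 hh]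
    have hPx : Polynomial.aeval (x : A) P = (gen p x q : A) := by
      simp only [P, gen, Finsupp.linearCombination_apply, Finsupp.sum, map_sum, Polynomial.aeval_monomial,
        Submodule.coe_sum, Submodule.coe_smul, coe_iterate_fp, Algebra.smul_def]
    have hint : IsIntegral k (x : A) := IsAlgebraic.isIntegral ⟨P, hP, by rw [hPx, h]; rfl⟩
    have hdvd : Polynomial.X ∣ minpoly k (x : A) := by
      rw [Polynomial.X_dvd_iff]
      have := congrArg (Bialgebra.counitAlgHom k A) (minpoly.aeval k (x : A))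
      rw [← Polynomial.aeval_algHom_apply, map_zero, Bialgebra.counitAlgHom_apply, counit_prim x.2] at this
      simpa [Polynomial.coeff_zero_eq_aeval_zero] using this
    have := minpoly.aeval k (x : A)
    rw [← Polynomial.eq_of_monic_of_associated Polynomial.monic_X (minpoly.monic hint)
      (Polynomial.irreducible_X.associated_of_dvd (minpoly.irreducible hint) hdvd), Polynomial.aeval_X] at this
    exact Subtype.ext this
  exact ⟨r, ⟨equivOfFree S hA hproj⟩⟩

end Descent

end Groth.Agent.PRed
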